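import Cfsg.Agent.Lib.CosetEnum.Defs

/-! Generated table data. -/

set_option autoImplicit false
set_option maxRecDepth 20000

namespace Cfsg.Lib.CosetEnum.RuStemT

/-- Table data. -/
def tabCA_0_0 : Tab :=
  (.node 19 (.node 9 (.node 4 (.node 2 (.node 1 (.leaf 0x4000000000000002b) (.leaf 0x4000000000000002c)) (.node 1 (.leaf 0x4000000000000002d) (.leaf 0x100000400000000164000010000000000200000000003))) (.node 2 (.node 1 (.leaf 0x10000100000300000800001000000000580001640000400000c0000200000400000000160000590001600000800000000004) (.leaf 0x1000000000000001600000200000000005)) (.node 1 (.leaf 0x100001800005000164000060000140000200000000007) (.node 1 (.leaf 0x1000014000070000000000200000000009) (.leaf 0x4000090000200000400000c0000200000400000000160000590001600005a000160000090000200000400000c00002000004000000001600005a000164000580001640000c0000000000a))))) (.node 5 (.node 2 (.node 1 (.leaf 0x10000000005a000000000010000000000c) (.leaf 0x1000004000010001840000200000400013)) (.node 1 (.leaf 0x100001400058000014000010000000000d) (.node 1 (.leaf 0x1000004000120000440001000001c0000400000400007) (.leaf 0x100000c00002000190000010000080000d)))) (.node 2 (.node 1 (.leaf 0x10001900005b0001900000100000800010)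 (.leaf 0x1000194000650001980000200004c0000f)) (.node 1 (.leaf 0x4000030000280000300019c0000300001000009) (.node 1 (.leaf 0x10000340006800002c0000300003000001) (.leaf 0x1000030000690000380000300003c00000)))))) (.node 9 (.node 4 (.node 2 (.node 1 (.leaf 0x40000600001400058000164000000001740000100006800019000060000170000580000c0001a40000d0000080000900000800004) (.leaf 0x10001ac0005e0001ac0000100001c00014)) (.node 1 (.leaf 0x10000640001a0000640001a0001b00000300006c00007) (.leaf 0x400002000104000400000fc0003e0000f40003c0000ec0003a0000e4000380000dc000360000d4000340000cc000320000c4000300000bc0002e0000b40002c0000ac0002a0000a40002800009c000260000940002400008c000220000840002000007c0001e0000740001c00006c0001400004c00069000034000020000040005d0000040002f00000800006))) (.node 2 (.node 1 (.leaf 0x40006e0001a00000a0001b80000100000c00012) (.leaf 0x100000c00045000110000430001b80000400000c00008)) (.node 1 (.leaf 0x10001c0000670001c00000100001000012) (.node 1 (.leaf 0x1000114000450001c40000200011800009) (.leaf 0x1000110000440001c8000020001140000c))))) (.node 5 (.node 2 (.node 1 (.leaf 0x1000124000480001180001200019800065000010000490001200004600004800066000194000040001700000800001400004) (.leaf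 0x10000400005f00018c00006000148000510001400004f0001380004d0001300004b0001280001a0001ac0000b00001c00004)) (.node 1 (.leaf 0x400046000044000520001d40000200004400014) (.node 1 (.leaf 0x1000120000760001480000300014c00002) (.leaf 0x4000490001dc00075000040000070001740000100016c00002000034000690001540005400014c0001500003c0006a0000300000700003000004)))) (.node 2 (.node 1 (.leaf 0x4000780001d0000550001e0000020001280000d) (.leaf 0x40004700012000049000150000790001e00000300012800007)) (.node 1 (.leaf 0x1000108000160000300000200003000005) (.node 1 (.leaf 0x40000f0001a800057000158000170000580000400003400003) (.leaf 0x100014c000150001f0000010000400000f)))))))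

/-- Table data. -/
def tabCA_0 : Tab :=
  tabCA_0_0

end Cfsg.Lib.CosetEnum.RuStemT
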