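import Cfsg.Agent.Lib.CosetEnum.Defs

/-! Generated table data. -/

set_option autoImplicit false
set_option maxRecDepth 20000

namespace Cfsg.Lib.CosetEnum.RuStemT

/-- Table data. -/
def tabFA_0_0 : Tab :=
  (.node 1 (.leaf 0x1f80008010000000001f00007e00000000001e80007c20000000001e00007a10000000001d80007800000000001d00007610000000001c80007400000000001c00007210000000001b80007000000000001b00006e20000000001a80006c10000000001a00006a00000000001980006810000000001900006600000000001880006420000000001800006210000000001780006000000000001700005e10000000001680005c00000000001600005a10000000001580005800000000001500005610000000001480005420000000001400005200000000001380005010000000001300004e00000000001280004c10000000001200004a20000000001180004800000000001100004610000000001080004400000000001000004210000000000f80004000000000000f00003e10000000000e80003c20000000000e00003a00000000000a80003810000000000d00003610000000000c80003440000000000c00003200000000000b80003010000000000680002e30000000000800002c00000000000a00002a00000000000600002820000000000900002610000000000880002440000000000400002210000000000780002010000000000700001e00000000000180001c10000000000600001a00000000000580001810000000000180001630000000000480001400000000000280001220000000000080001040000000000300000e10000000000000000c40000000000200000a1000000000018000084000000000010000060000000000008000041000000000000000023) (.leaf 0x2c0000a800000000002c00002030000000000b80008600000000002a00009040000000002a8000adf000000000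2b0000944000000000248000a7f0000000002900008ff0000000002980002200000000002500009400000000002200008830000000002280008a30000000002300008c30000000002300000820000000002100008430000000002100000620000000000c80003210000000000d80003640000000000d80000e00000000000680001ff00000000007000019f00000000005800007f0000000000200000830000000000980002630000000000980000800000000000980000440000000000300000c00000000000100000420000000000080000220000000000500001410000000000400000c30000000000380000e40000000000080000200000000000280000a00000000000100000430000000000000000020000000000000000010000000000000000000000000002b8000b010000000000c0000ae30000000002a8000ac00000000002a0000aa10000000000b0000a83000000000290000a64000000000288000a41000000000280000a20000000000278000a010000000002700009e40000000002680009c00000000002600009a10000000002580009830000000000d00009600000000002480009410000000002380009240000000002380009010000000000900008e00000000002280008c40000000002200008a2000000000210000884000000000060000863000000000208000841000000000200000820))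

/-- Table data. -/
def tabFA_0 : Tab :=
  tabFA_0_0

end Cfsg.Lib.CosetEnum.RuStemT
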