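import Cfsg.Agent.Lib.CosetEnum.Defs

/-! Generated table data. -/

set_option autoImplicit false
set_option maxRecDepth 20000

namespace Cfsg.Lib.CosetEnum.RuStemT

/-- Table data. -/
def tabVB_0_0 : Tab :=
  (.node 32 (.node 16 (.node 8 (.node 4 (.node 2 (.node 1 (.leaf 0x888888888) (.leaf 0x888888888)) (.node 1 (.leaf 0x888888888) (.leaf 0x888888888))) (.node 2 (.node 1 (.leaf 0x888888888) (.leaf 0x888888888)) (.node 1 (.leaf 0x888888888) (.leaf 0x888888888)))) (.node 4 (.node 2 (.node 1 (.leaf 0x888888888) (.leaf 0x888888888)) (.node 1 (.leaf 0x888888888) (.leaf 0x888888888))) (.node 2 (.node 1 (.leaf 0x888888888) (.leaf 0x888888888)) (.node 1 (.leaf 0x888888888) (.leaf 0x888888888))))) (.node 8 (.node 4 (.node 2 (.node 1 (.leaf 0x888888888) (.leaf 0x888888888)) (.node 1 (.leaf 0x888888888) (.leaf 0x888888888))) (.node 2 (.node 1 (.leaf 0x888888888) (.leaf 0x888888888)) (.node 1 (.leaf 0x888888888) (.leaf 0x888888888)))) (.node 4 (.node 2 (.node 1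 (.leaf 0x888888888) (.leaf 0x888888888)) (.node 1 (.leaf 0x888888888) (.leaf 0x888888888))) (.node 2 (.node 1 (.leaf 0x888888888) (.leaf 0x888888888)) (.node 1 (.leaf 0x888888888) (.leaf 0x888888888)))))) (.node 16 (.node 8 (.node 4 (.node 2 (.node 1 (.leaf 0x888888888) (.leaf 0x888888888)) (.node 1 (.leaf 0x888888888) (.leaf 0x888888888))) (.node 2 (.node 1 (.leaf 0x888888888) (.leaf 0x888888888)) (.node 1 (.leaf 0x888888888) (.leaf 0x888888888)))) (.node 4 (.node 2 (.node 1 (.leaf 0x888888888) (.leaf 0x888888888)) (.node 1 (.leaf 0x888888888) (.leaf 0x888888888))) (.node 2 (.node 1 (.leaf 0x888888888) (.leaf 0x888888888)) (.node 1 (.leaf 0x888888888) (.leaf 0x888888888))))) (.node 8 (.node 4 (.node 2 (.node 1 (.leaf 0x888888888) (.leaf 0x888888888)) (.node 1 (.leaf 0x888888888) (.leaf 0x888888888))) (.node 2 (.node 1 (.leaf 0x888888888) (.leaf 0x888888888)) (.node 1 (.leaf 0x888888888) (.leaf 0x888888888)))) (.node 4 (.node 2 (.node 1 (.leaf 0x888888888)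 (.leaf 0x888888888)) (.node 1 (.leaf 0x888888888) (.leaf 0x888888888))) (.node 2 (.node 1 (.leaf 0x888888888) (.leaf 0x888888888)) (.node 1 (.leaf 0x888888888) (.leaf 0x888888888)))))))

/-- Table data. -/
def tabVB_0_1 : Tab :=
  (.node 32 (.node 16 (.node 8 (.node 4 (.node 2 (.node 1 (.leaf 0x888888888) (.leaf 0x888888888)) (.node 1 (.leaf 0x888888888) (.leaf 0x888888888))) (.node 2 (.node 1 (.leaf 0x888888888) (.leaf 0x888888888)) (.node 1 (.leaf 0x888888888) (.leaf 0x888888888)))) (.node 4 (.node 2 (.node 1 (.leaf 0x888888888) (.leaf 0x888888888)) (.node 1 (.leaf 0x888888888) (.leaf 0x888888888))) (.node 2 (.node 1 (.leaf 0x888888888) (.leaf 0x888888888)) (.node 1 (.leaf 0x888888888) (.leaf 0x888888888))))) (.node 8 (.node 4 (.node 2 (.node 1 (.leaf 0x888888888) (.leaf 0x888888888)) (.node 1 (.leaf 0x888888888) (.leaf 0x888888888))) (.node 2 (.node 1 (.leaf 0x888888888) (.leaf 0x888888888)) (.node 1 (.leaf 0x888888888) (.leaf 0x888888888)))) (.node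 4 (.node 2 (.node 1 (.leaf 0x888888888) (.leaf 0x888888888)) (.node 1 (.leaf 0x888888888) (.leaf 0x888888888))) (.node 2 (.node 1 (.leaf 0x888888888) (.leaf 0x888888888)) (.node 1 (.leaf 0x888888888) (.leaf 0x888888888)))))) (.node 16 (.node 8 (.node 4 (.node 2 (.node 1 (.leaf 0x888888888) (.leaf 0x888888888)) (.node 1 (.leaf 0x888888888) (.leaf 0x888888888))) (.node 2 (.node 1 (.leaf 0x888888888) (.leaf 0x888888888)) (.node 1 (.leaf 0x888888888) (.leaf 0x888888888)))) (.node 4 (.node 2 (.node 1 (.leaf 0x888888888) (.leaf 0x888888888)) (.node 1 (.leaf 0x888888888) (.leaf 0x888888888))) (.node 2 (.node 1 (.leaf 0x888888888) (.leaf 0x888888888)) (.node 1 (.leaf 0x888888888) (.leaf 0x888888888))))) (.node 8 (.node 4 (.node 2 (.node 1 (.leaf 0x888888888) (.leaf 0x888888888)) (.node 1 (.leaf 0x888888888) (.leaf 0x888888888))) (.node 2 (.node 1 (.leaf 0x888888888) (.leaf 0x888888888)) (.node 1 (.leaf 0x888888888) (.leaf 0x888888888)))) (.node 4 (.node 2 (.node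 1 (.leaf 0x888888888) (.leaf 0x888888888)) (.node 1 (.leaf 0x888888888) (.leaf 0x888888888))) (.node 2 (.node 1 (.leaf 0x888888888) (.leaf 0x888888888)) (.node 1 (.leaf 0x888888888) (.leaf 0x888888888)))))))

/-- Table data. -/
def tabVB_0_2 : Tab :=
  (.node 32 (.node 16 (.node 8 (.node 4 (.node 2 (.node 1 (.leaf 0x888888888) (.leaf 0x888888888)) (.node 1 (.leaf 0x888888888) (.leaf 0x888888888))) (.node 2 (.node 1 (.leaf 0x888888888) (.leaf 0x888888888)) (.node 1 (.leaf 0x888888888) (.leaf 0x888888888)))) (.node 4 (.node 2 (.node 1 (.leaf 0x888888888) (.leaf 0x888888888)) (.node 1 (.leaf 0x888888888) (.leaf 0x888888888))) (.node 2 (.node 1 (.leaf 0x888888888) (.leaf 0x888888888)) (.node 1 (.leaf 0x888888888) (.leaf 0x888888888))))) (.node 8 (.node 4 (.node 2 (.node 1 (.leaf 0x888888888) (.leaf 0x888888888)) (.node 1 (.leaf 0x888888888) (.leaf 0x888888888))) (.node 2 (.node 1 (.leaf 0x888888888) (.leaf 0x888888888)) (.node 1 (.leaf 0x888888888) (.leaf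 0x888888888)))) (.node 4 (.node 2 (.node 1 (.leaf 0x888888888) (.leaf 0x888888888)) (.node 1 (.leaf 0x888888888) (.leaf 0x888888888))) (.node 2 (.node 1 (.leaf 0x888888888) (.leaf 0x888888888)) (.node 1 (.leaf 0x888888888) (.leaf 0x888888888)))))) (.node 16 (.node 8 (.node 4 (.node 2 (.node 1 (.leaf 0x888888888) (.leaf 0x888888888)) (.node 1 (.leaf 0x888888888) (.leaf 0x888888888))) (.node 2 (.node 1 (.leaf 0x888888888) (.leaf 0x888888888)) (.node 1 (.leaf 0x888888888) (.leaf 0x888888888)))) (.node 4 (.node 2 (.node 1 (.leaf 0x888888888) (.leaf 0x888888888)) (.node 1 (.leaf 0x888888888) (.leaf 0x888888888))) (.node 2 (.node 1 (.leaf 0x888888888) (.leaf 0x888888888)) (.node 1 (.leaf 0x888888888) (.leaf 0x888888888))))) (.node 8 (.node 4 (.node 2 (.node 1 (.leaf 0x888888888) (.leaf 0x888888888)) (.node 1 (.leaf 0x888888888) (.leaf 0x888888888))) (.node 2 (.node 1 (.leaf 0x888888888) (.leaf 0x888888888)) (.node 1 (.leaf 0x888888888) (.leaf 0x888888888))))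 (.node 4 (.node 2 (.node 1 (.leaf 0x888888888) (.leaf 0x888888888)) (.node 1 (.leaf 0x888888888) (.leaf 0x888888888))) (.node 2 (.node 1 (.leaf 0x888888888) (.leaf 0x888888888)) (.node 1 (.leaf 0x888888888) (.leaf 0x888888888)))))))

/-- Table data. -/
def tabVB_0_3 : Tab :=
  (.node 32 (.node 16 (.node 8 (.node 4 (.node 2 (.node 1 (.leaf 0x888888888) (.leaf 0x888888888)) (.node 1 (.leaf 0x888888888) (.leaf 0x888888888))) (.node 2 (.node 1 (.leaf 0x888888888) (.leaf 0x888888888)) (.node 1 (.leaf 0x888888888) (.leaf 0x888888888)))) (.node 4 (.node 2 (.node 1 (.leaf 0x888888888) (.leaf 0x888888888)) (.node 1 (.leaf 0x888888888) (.leaf 0x888888888))) (.node 2 (.node 1 (.leaf 0x888888888) (.leaf 0x888888888)) (.node 1 (.leaf 0x888888888) (.leaf 0x888888888))))) (.node 8 (.node 4 (.node 2 (.node 1 (.leaf 0x888888888) (.leaf 0x888888888)) (.node 1 (.leaf 0x888888888) (.leaf 0x888888888))) (.node 2 (.node 1 (.leaf 0x888888888) (.leaf 0x888888888)) (.node 1 (.leaf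 0x888888888) (.leaf 0x888888888)))) (.node 4 (.node 2 (.node 1 (.leaf 0x888888888) (.leaf 0x888888888)) (.node 1 (.leaf 0x888888888) (.leaf 0x888888888))) (.node 2 (.node 1 (.leaf 0x888888888) (.leaf 0x888888888)) (.node 1 (.leaf 0x888888888) (.leaf 0x888888888)))))) (.node 16 (.node 8 (.node 4 (.node 2 (.node 1 (.leaf 0x888888888) (.leaf 0x888888888)) (.node 1 (.leaf 0x888888888) (.leaf 0x888888888))) (.node 2 (.node 1 (.leaf 0x888888888) (.leaf 0x888888888)) (.node 1 (.leaf 0x888888888) (.leaf 0x888888888)))) (.node 4 (.node 2 (.node 1 (.leaf 0x888888888) (.leaf 0x888888888)) (.node 1 (.leaf 0x888888888) (.leaf 0x888888888))) (.node 2 (.node 1 (.leaf 0x888888888) (.leaf 0x888888888)) (.node 1 (.leaf 0x888888888) (.leaf 0x888888888))))) (.node 8 (.node 4 (.node 2 (.node 1 (.leaf 0x888888888) (.leaf 0x888888888)) (.node 1 (.leaf 0x888888888) (.leaf 0x888888888))) (.node 2 (.node 1 (.leaf 0x888888888) (.leaf 0x888888888)) (.node 1 (.leaf 0x888888888) (.leaf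 0x888888888)))) (.node 4 (.node 2 (.node 1 (.leaf 0x888888888) (.leaf 0x888888888)) (.node 1 (.leaf 0x888888888) (.leaf 0x888888888))) (.node 2 (.node 1 (.leaf 0x888888888) (.leaf 0x888888888)) (.node 1 (.leaf 0x888888888) (.leaf 0x888888888)))))))

/-- Table data. -/
def tabVB_0_4 : Tab :=
  (.node 32 (.node 16 (.node 8 (.node 4 (.node 2 (.node 1 (.leaf 0x888888888) (.leaf 0x888888888)) (.node 1 (.leaf 0x888888888) (.leaf 0x888888888))) (.node 2 (.node 1 (.leaf 0x888888888) (.leaf 0x888888888)) (.node 1 (.leaf 0x888888888) (.leaf 0x888888888)))) (.node 4 (.node 2 (.node 1 (.leaf 0x888888888) (.leaf 0x888888888)) (.node 1 (.leaf 0x888888888) (.leaf 0x888888888))) (.node 2 (.node 1 (.leaf 0x888888888) (.leaf 0x888888888)) (.node 1 (.leaf 0x888888888) (.leaf 0x888888888))))) (.node 8 (.node 4 (.node 2 (.node 1 (.leaf 0x888888888) (.leaf 0x888888888)) (.node 1 (.leaf 0x888888888) (.leaf 0x888888888))) (.node 2 (.node 1 (.leaf 0x888888888) (.leaf 0x888888888))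 (.node 1 (.leaf 0x888888888) (.leaf 0x888888888)))) (.node 4 (.node 2 (.node 1 (.leaf 0x888888888) (.leaf 0x888888888)) (.node 1 (.leaf 0x888888888) (.leaf 0x888888888))) (.node 2 (.node 1 (.leaf 0x888888888) (.leaf 0x888888888)) (.node 1 (.leaf 0x888888888) (.leaf 0x888888888)))))) (.node 16 (.node 8 (.node 4 (.node 2 (.node 1 (.leaf 0x888888888) (.leaf 0x888888888)) (.node 1 (.leaf 0x888888888) (.leaf 0x888888888))) (.node 2 (.node 1 (.leaf 0x888888888) (.leaf 0x888888888)) (.node 1 (.leaf 0x888888888) (.leaf 0x888888888)))) (.node 4 (.node 2 (.node 1 (.leaf 0x888888888) (.leaf 0x888888888)) (.node 1 (.leaf 0x888888888) (.leaf 0x888888888))) (.node 2 (.node 1 (.leaf 0x888888888) (.leaf 0x888888888)) (.node 1 (.leaf 0x888888888) (.leaf 0x888888888))))) (.node 8 (.node 4 (.node 2 (.node 1 (.leaf 0x888888888) (.leaf 0x888888888)) (.node 1 (.leaf 0x888888888) (.leaf 0x888888888))) (.node 2 (.node 1 (.leaf 0x888888888) (.leaf 0x888888888)) (.node 1 (.leaf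 0x888888888) (.leaf 0x888888888)))) (.node 4 (.node 2 (.node 1 (.leaf 0x888888888) (.leaf 0x888888888)) (.node 1 (.leaf 0x888888888) (.leaf 0x888888888))) (.node 2 (.node 1 (.leaf 0x888888888) (.leaf 0x888888888)) (.node 1 (.leaf 0x888888888) (.leaf 0x888888888)))))))

/-- Table data. -/
def tabVB_0_5 : Tab :=
  (.node 32 (.node 16 (.node 8 (.node 4 (.node 2 (.node 1 (.leaf 0x888888888) (.leaf 0x888888888)) (.node 1 (.leaf 0x888888888) (.leaf 0x888888888))) (.node 2 (.node 1 (.leaf 0x888888888) (.leaf 0x888888888)) (.node 1 (.leaf 0x888888888) (.leaf 0x888888888)))) (.node 4 (.node 2 (.node 1 (.leaf 0x888888888) (.leaf 0x888888888)) (.node 1 (.leaf 0x888888888) (.leaf 0x888888888))) (.node 2 (.node 1 (.leaf 0x888888888) (.leaf 0x888888888)) (.node 1 (.leaf 0x888888888) (.leaf 0x888888888))))) (.node 8 (.node 4 (.node 2 (.node 1 (.leaf 0x888888888) (.leaf 0x888888888)) (.node 1 (.leaf 0x888888888) (.leaf 0x888888888))) (.node 2 (.node 1 (.leaf 0x888888888)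 (.leaf 0x888888888)) (.node 1 (.leaf 0x888888888) (.leaf 0x888888888)))) (.node 4 (.node 2 (.node 1 (.leaf 0x888888888) (.leaf 0x888888888)) (.node 1 (.leaf 0x888888888) (.leaf 0x888888888))) (.node 2 (.node 1 (.leaf 0x888888888) (.leaf 0x888888888)) (.node 1 (.leaf 0x888888888) (.leaf 0x888888888)))))) (.node 16 (.node 8 (.node 4 (.node 2 (.node 1 (.leaf 0x888888888) (.leaf 0x888888888)) (.node 1 (.leaf 0x888888888) (.leaf 0x888888888))) (.node 2 (.node 1 (.leaf 0x888888888) (.leaf 0x888888888)) (.node 1 (.leaf 0x888888888) (.leaf 0x888888888)))) (.node 4 (.node 2 (.node 1 (.leaf 0x888888888) (.leaf 0x888888888)) (.node 1 (.leaf 0x888888888) (.leaf 0x888888888))) (.node 2 (.node 1 (.leaf 0x888888888) (.leaf 0x888888888)) (.node 1 (.leaf 0x888888888) (.leaf 0x888888888))))) (.node 8 (.node 4 (.node 2 (.node 1 (.leaf 0x888888888) (.leaf 0x888888888)) (.node 1 (.leaf 0x888888888) (.leaf 0x888888888))) (.node 2 (.node 1 (.leaf 0x888888888) (.leaf 0x888888888))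 (.node 1 (.leaf 0x888888888) (.leaf 0x888888888)))) (.node 4 (.node 2 (.node 1 (.leaf 0x888888888) (.leaf 0x888888888)) (.node 1 (.leaf 0x888888888) (.leaf 0x888888888))) (.node 2 (.node 1 (.leaf 0x888888888) (.leaf 0x888888888)) (.node 1 (.leaf 0x888888888) (.leaf 0x888888888)))))))

/-- Table data. -/
def tabVB_0_6 : Tab :=
  (.node 32 (.node 16 (.node 8 (.node 4 (.node 2 (.node 1 (.leaf 0x888888888) (.leaf 0x888888888)) (.node 1 (.leaf 0x888888888) (.leaf 0x888888888))) (.node 2 (.node 1 (.leaf 0x888888888) (.leaf 0x888888888)) (.node 1 (.leaf 0x888888888) (.leaf 0x888888888)))) (.node 4 (.node 2 (.node 1 (.leaf 0x888888888) (.leaf 0x888888888)) (.node 1 (.leaf 0x888888888) (.leaf 0x888888888))) (.node 2 (.node 1 (.leaf 0x888888888) (.leaf 0x888888888)) (.node 1 (.leaf 0x888888888) (.leaf 0x888888888))))) (.node 8 (.node 4 (.node 2 (.node 1 (.leaf 0x888888888) (.leaf 0x888888888)) (.node 1 (.leaf 0x888888888) (.leaf 0x888888888))) (.node 2 (.node 1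 (.leaf 0x888888888) (.leaf 0x888888888)) (.node 1 (.leaf 0x888888888) (.leaf 0x888888888)))) (.node 4 (.node 2 (.node 1 (.leaf 0x888888888) (.leaf 0x888888888)) (.node 1 (.leaf 0x888888888) (.leaf 0x888888888))) (.node 2 (.node 1 (.leaf 0x888888888) (.leaf 0x888888888)) (.node 1 (.leaf 0x888888888) (.leaf 0x888888888)))))) (.node 16 (.node 8 (.node 4 (.node 2 (.node 1 (.leaf 0x888888888) (.leaf 0x888888888)) (.node 1 (.leaf 0x888888888) (.leaf 0x888888888))) (.node 2 (.node 1 (.leaf 0x888888888) (.leaf 0x888888888)) (.node 1 (.leaf 0x888888888) (.leaf 0x888888888)))) (.node 4 (.node 2 (.node 1 (.leaf 0x888888888) (.leaf 0x888888888)) (.node 1 (.leaf 0x888888888) (.leaf 0x888888888))) (.node 2 (.node 1 (.leaf 0x888888888) (.leaf 0x888888888)) (.node 1 (.leaf 0x888888888) (.leaf 0x888888888))))) (.node 8 (.node 4 (.node 2 (.node 1 (.leaf 0x888888888) (.leaf 0x888888888)) (.node 1 (.leaf 0x888888888) (.leaf 0x888888888))) (.node 2 (.node 1 (.leaf 0x888888888)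 (.leaf 0x888888888)) (.node 1 (.leaf 0x888888888) (.leaf 0x888888888)))) (.node 4 (.node 2 (.node 1 (.leaf 0x888888888) (.leaf 0x888888888)) (.node 1 (.leaf 0x888888888) (.leaf 0x888888888))) (.node 2 (.node 1 (.leaf 0x888888888) (.leaf 0x888888888)) (.node 1 (.leaf 0x888888888) (.leaf 0x888888888)))))))

/-- Table data. -/
def tabVB_0_7 : Tab :=
  (.node 32 (.node 16 (.node 8 (.node 4 (.node 2 (.node 1 (.leaf 0x888888888) (.leaf 0x888888888)) (.node 1 (.leaf 0x888888888) (.leaf 0x888888888))) (.node 2 (.node 1 (.leaf 0x888888888) (.leaf 0x888888888)) (.node 1 (.leaf 0x888888888) (.leaf 0x888888888)))) (.node 4 (.node 2 (.node 1 (.leaf 0x888888888) (.leaf 0x888888888)) (.node 1 (.leaf 0x888888888) (.leaf 0x888888888))) (.node 2 (.node 1 (.leaf 0x888888888) (.leaf 0x888888888)) (.node 1 (.leaf 0x888888888) (.leaf 0x888888888))))) (.node 8 (.node 4 (.node 2 (.node 1 (.leaf 0x888888888) (.leaf 0x888888888)) (.node 1 (.leaf 0x888888888) (.leaf 0x888888888)))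 (.node 2 (.node 1 (.leaf 0x888888888) (.leaf 0x888888888)) (.node 1 (.leaf 0x888888888) (.leaf 0x888888888)))) (.node 4 (.node 2 (.node 1 (.leaf 0x888888888) (.leaf 0x888888888)) (.node 1 (.leaf 0x888888888) (.leaf 0x888888888))) (.node 2 (.node 1 (.leaf 0x888888888) (.leaf 0x888888888)) (.node 1 (.leaf 0x888888888) (.leaf 0x888888888)))))) (.node 16 (.node 8 (.node 4 (.node 2 (.node 1 (.leaf 0x888888888) (.leaf 0x888888888)) (.node 1 (.leaf 0x888888888) (.leaf 0x888888888))) (.node 2 (.node 1 (.leaf 0x888888888) (.leaf 0x888888888)) (.node 1 (.leaf 0x888888888) (.leaf 0x888888888)))) (.node 4 (.node 2 (.node 1 (.leaf 0x888888888) (.leaf 0x888888888)) (.node 1 (.leaf 0x888888888) (.leaf 0x888888888))) (.node 2 (.node 1 (.leaf 0x888888888) (.leaf 0x888888888)) (.node 1 (.leaf 0x888888888) (.leaf 0x888888888))))) (.node 8 (.node 4 (.node 2 (.node 1 (.leaf 0x888888888) (.leaf 0x888888888)) (.node 1 (.leaf 0x888888888) (.leaf 0x888888888))) (.node 2 (.node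 1 (.leaf 0x888888888) (.leaf 0x888888888)) (.node 1 (.leaf 0x888888888) (.leaf 0x888888888)))) (.node 4 (.node 2 (.node 1 (.leaf 0x888888888) (.leaf 0x888888888)) (.node 1 (.leaf 0x888888888) (.leaf 0x888888888))) (.node 2 (.node 1 (.leaf 0x888888888) (.leaf 0x888888888)) (.node 1 (.leaf 0x888888888) (.leaf 0x888888888)))))))

/-- Table data. -/
def tabVB_0_8 : Tab :=
  (.node 32 (.node 16 (.node 8 (.node 4 (.node 2 (.node 1 (.leaf 0x888888888) (.leaf 0x888888888)) (.node 1 (.leaf 0x888888888) (.leaf 0x888888888))) (.node 2 (.node 1 (.leaf 0x888888888) (.leaf 0x888888888)) (.node 1 (.leaf 0x888888888) (.leaf 0x888888888)))) (.node 4 (.node 2 (.node 1 (.leaf 0x888888888) (.leaf 0x888888888)) (.node 1 (.leaf 0x888888888) (.leaf 0x888888888))) (.node 2 (.node 1 (.leaf 0x888888888) (.leaf 0x888888888)) (.node 1 (.leaf 0x888888888) (.leaf 0x888888888))))) (.node 8 (.node 4 (.node 2 (.node 1 (.leaf 0x888888888) (.leaf 0x888888888)) (.node 1 (.leaf 0x888888888)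 (.leaf 0x888888888))) (.node 2 (.node 1 (.leaf 0x888888888) (.leaf 0x888888888)) (.node 1 (.leaf 0x888888888) (.leaf 0x888888888)))) (.node 4 (.node 2 (.node 1 (.leaf 0x888888888) (.leaf 0x888888888)) (.node 1 (.leaf 0x888888888) (.leaf 0x888888888))) (.node 2 (.node 1 (.leaf 0x888888888) (.leaf 0x888888888)) (.node 1 (.leaf 0x888888888) (.leaf 0x888888888)))))) (.node 16 (.node 8 (.node 4 (.node 2 (.node 1 (.leaf 0x888888888) (.leaf 0x888888888)) (.node 1 (.leaf 0x888888888) (.leaf 0x888888888))) (.node 2 (.node 1 (.leaf 0x888888888) (.leaf 0x888888888)) (.node 1 (.leaf 0x888888888) (.leaf 0x888888888)))) (.node 4 (.node 2 (.node 1 (.leaf 0x888888888) (.leaf 0x888888888)) (.node 1 (.leaf 0x888888888) (.leaf 0x888888888))) (.node 2 (.node 1 (.leaf 0x888888888) (.leaf 0x888888888)) (.node 1 (.leaf 0x888888888) (.leaf 0x888888888))))) (.node 8 (.node 4 (.node 2 (.node 1 (.leaf 0x888888888) (.leaf 0x888888888)) (.node 1 (.leaf 0x888888888) (.leaf 0x888888888)))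 (.node 2 (.node 1 (.leaf 0x888888888) (.leaf 0x888888888)) (.node 1 (.leaf 0x888888888) (.leaf 0x888888888)))) (.node 4 (.node 2 (.node 1 (.leaf 0x888888888) (.leaf 0x888888888)) (.node 1 (.leaf 0x888888888) (.leaf 0x888888888))) (.node 2 (.node 1 (.leaf 0x888888888) (.leaf 0x888888888)) (.node 1 (.leaf 0x888888888) (.leaf 0x888888888)))))))

/-- Table data. -/
def tabVB_0_9 : Tab :=
  (.node 32 (.node 16 (.node 8 (.node 4 (.node 2 (.node 1 (.leaf 0x888888888) (.leaf 0x888888888)) (.node 1 (.leaf 0x888888888) (.leaf 0x888888888))) (.node 2 (.node 1 (.leaf 0x888888888) (.leaf 0x888888888)) (.node 1 (.leaf 0x888888888) (.leaf 0x888888888)))) (.node 4 (.node 2 (.node 1 (.leaf 0x888888888) (.leaf 0x888888888)) (.node 1 (.leaf 0x888888888) (.leaf 0x888888888))) (.node 2 (.node 1 (.leaf 0x888888888) (.leaf 0x888888888)) (.node 1 (.leaf 0x888888888) (.leaf 0x888888888))))) (.node 8 (.node 4 (.node 2 (.node 1 (.leaf 0x888888888) (.leaf 0x888888888)) (.node 1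 (.leaf 0x888888888) (.leaf 0x888888888))) (.node 2 (.node 1 (.leaf 0x888888888) (.leaf 0x888888888)) (.node 1 (.leaf 0x888888888) (.leaf 0x888888888)))) (.node 4 (.node 2 (.node 1 (.leaf 0x888888888) (.leaf 0x888888888)) (.node 1 (.leaf 0x888888888) (.leaf 0x888888888))) (.node 2 (.node 1 (.leaf 0x888888888) (.leaf 0x888888888)) (.node 1 (.leaf 0x888888888) (.leaf 0x888888888)))))) (.node 16 (.node 8 (.node 4 (.node 2 (.node 1 (.leaf 0x888888888) (.leaf 0x888888888)) (.node 1 (.leaf 0x888888888) (.leaf 0x888888888))) (.node 2 (.node 1 (.leaf 0x888888888) (.leaf 0x888888888)) (.node 1 (.leaf 0x888888888) (.leaf 0x888888888)))) (.node 4 (.node 2 (.node 1 (.leaf 0x888888888) (.leaf 0x888888888)) (.node 1 (.leaf 0x888888888) (.leaf 0x888888888))) (.node 2 (.node 1 (.leaf 0x888888888) (.leaf 0x888888888)) (.node 1 (.leaf 0x888888888) (.leaf 0x888888888))))) (.node 8 (.node 4 (.node 2 (.node 1 (.leaf 0x888888888) (.leaf 0x888888888)) (.node 1 (.leaf 0x888888888)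 (.leaf 0x888888888))) (.node 2 (.node 1 (.leaf 0x888888888) (.leaf 0x888888888)) (.node 1 (.leaf 0x888888888) (.leaf 0x888888888)))) (.node 4 (.node 2 (.node 1 (.leaf 0x888888888) (.leaf 0x888888888)) (.node 1 (.leaf 0x888888888) (.leaf 0x888888888))) (.node 2 (.node 1 (.leaf 0x888888888) (.leaf 0x888888888)) (.node 1 (.leaf 0x888888888) (.leaf 0x888888888)))))))

/-- Table data. -/
def tabVB_0_10 : Tab :=
  (.node 32 (.node 16 (.node 8 (.node 4 (.node 2 (.node 1 (.leaf 0x888888888) (.leaf 0x888888888)) (.node 1 (.leaf 0x888888888) (.leaf 0x888888888))) (.node 2 (.node 1 (.leaf 0x888888888) (.leaf 0x888888888)) (.node 1 (.leaf 0x888888888) (.leaf 0x888888888)))) (.node 4 (.node 2 (.node 1 (.leaf 0x888888888) (.leaf 0x888888888)) (.node 1 (.leaf 0x888888888) (.leaf 0x888888888))) (.node 2 (.node 1 (.leaf 0x888888888) (.leaf 0x888888888)) (.node 1 (.leaf 0x888888888) (.leaf 0x888888888))))) (.node 8 (.node 4 (.node 2 (.node 1 (.leaf 0x888888888) (.leaf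 0x888888888)) (.node 1 (.leaf 0x888888888) (.leaf 0x888888888))) (.node 2 (.node 1 (.leaf 0x888888888) (.leaf 0x888888888)) (.node 1 (.leaf 0x888888888) (.leaf 0x888888888)))) (.node 4 (.node 2 (.node 1 (.leaf 0x888888888) (.leaf 0x888888888)) (.node 1 (.leaf 0x888888888) (.leaf 0x888888888))) (.node 2 (.node 1 (.leaf 0x888888888) (.leaf 0x888888888)) (.node 1 (.leaf 0x888888888) (.leaf 0x888888888)))))) (.node 16 (.node 8 (.node 4 (.node 2 (.node 1 (.leaf 0x888888888) (.leaf 0x888888888)) (.node 1 (.leaf 0x888888888) (.leaf 0x888888888))) (.node 2 (.node 1 (.leaf 0x888888888) (.leaf 0x888888888)) (.node 1 (.leaf 0x888888888) (.leaf 0x888888888)))) (.node 4 (.node 2 (.node 1 (.leaf 0x888888888) (.leaf 0x888888888)) (.node 1 (.leaf 0x888888888) (.leaf 0x888888888))) (.node 2 (.node 1 (.leaf 0x888888888) (.leaf 0x888888888)) (.node 1 (.leaf 0x888888888) (.leaf 0x888888888))))) (.node 8 (.node 4 (.node 2 (.node 1 (.leaf 0x888888888) (.leaf 0x888888888))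 (.node 1 (.leaf 0x888888888) (.leaf 0x888888888))) (.node 2 (.node 1 (.leaf 0x888888888) (.leaf 0x888888888)) (.node 1 (.leaf 0x888888888) (.leaf 0x888888888)))) (.node 4 (.node 2 (.node 1 (.leaf 0x888888888) (.leaf 0x888888888)) (.node 1 (.leaf 0x888888888) (.leaf 0x888888888))) (.node 2 (.node 1 (.leaf 0x888888888) (.leaf 0x888888888)) (.node 1 (.leaf 0x888888888) (.leaf 0x888888888)))))))

/-- Table data. -/
def tabVB_0_11 : Tab :=
  (.node 32 (.node 16 (.node 8 (.node 4 (.node 2 (.node 1 (.leaf 0x888888888) (.leaf 0x888888888)) (.node 1 (.leaf 0x888888888) (.leaf 0x888888888))) (.node 2 (.node 1 (.leaf 0x888888888) (.leaf 0x888888888)) (.node 1 (.leaf 0x888888888) (.leaf 0x888888888)))) (.node 4 (.node 2 (.node 1 (.leaf 0x888888888) (.leaf 0x888888888)) (.node 1 (.leaf 0x888888888) (.leaf 0x888888888))) (.node 2 (.node 1 (.leaf 0x888888888) (.leaf 0x888888888)) (.node 1 (.leaf 0x888888888) (.leaf 0x888888888))))) (.node 8 (.node 4 (.node 2 (.node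 1 (.leaf 0x888888888) (.leaf 0x888888888)) (.node 1 (.leaf 0x888888888) (.leaf 0x888888888))) (.node 2 (.node 1 (.leaf 0x888888888) (.leaf 0x888888888)) (.node 1 (.leaf 0x888888888) (.leaf 0x888888888)))) (.node 4 (.node 2 (.node 1 (.leaf 0x888888888) (.leaf 0x888888888)) (.node 1 (.leaf 0x888888888) (.leaf 0x888888888))) (.node 2 (.node 1 (.leaf 0x888888888) (.leaf 0x888888888)) (.node 1 (.leaf 0x888888888) (.leaf 0x888888888)))))) (.node 16 (.node 8 (.node 4 (.node 2 (.node 1 (.leaf 0x888888888) (.leaf 0x888888888)) (.node 1 (.leaf 0x888888888) (.leaf 0x888888888))) (.node 2 (.node 1 (.leaf 0x888888888) (.leaf 0x888888888)) (.node 1 (.leaf 0x888888888) (.leaf 0x888888888)))) (.node 4 (.node 2 (.node 1 (.leaf 0x888888888) (.leaf 0x888888888)) (.node 1 (.leaf 0x888888888) (.leaf 0x888888888))) (.node 2 (.node 1 (.leaf 0x888888888) (.leaf 0x888888888)) (.node 1 (.leaf 0x888888888) (.leaf 0x888888888))))) (.node 8 (.node 4 (.node 2 (.node 1 (.leaf 0x888888888)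 (.leaf 0x888888888)) (.node 1 (.leaf 0x888888888) (.leaf 0x888888888))) (.node 2 (.node 1 (.leaf 0x888888888) (.leaf 0x888888888)) (.node 1 (.leaf 0x888888888) (.leaf 0x888888888)))) (.node 4 (.node 2 (.node 1 (.leaf 0x888888888) (.leaf 0x888888888)) (.node 1 (.leaf 0x888888888) (.leaf 0x888888888))) (.node 2 (.node 1 (.leaf 0x888888888) (.leaf 0x888888888)) (.node 1 (.leaf 0x888888888) (.leaf 0x888888888)))))))

/-- Table data. -/
def tabVB_0_12 : Tab :=
  (.node 32 (.node 16 (.node 8 (.node 4 (.node 2 (.node 1 (.leaf 0x888888888) (.leaf 0x888888888)) (.node 1 (.leaf 0x888888888) (.leaf 0x888888888))) (.node 2 (.node 1 (.leaf 0x888888888) (.leaf 0x888888888)) (.node 1 (.leaf 0x888888888) (.leaf 0x888888888)))) (.node 4 (.node 2 (.node 1 (.leaf 0x888888888) (.leaf 0x888888888)) (.node 1 (.leaf 0x888888888) (.leaf 0x888888888))) (.node 2 (.node 1 (.leaf 0x888888888) (.leaf 0x888888888)) (.node 1 (.leaf 0x888888888) (.leaf 0x888888888))))) (.node 8 (.node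 4 (.node 2 (.node 1 (.leaf 0x888888888) (.leaf 0x888888888)) (.node 1 (.leaf 0x888888888) (.leaf 0x888888888))) (.node 2 (.node 1 (.leaf 0x888888888) (.leaf 0x888888888)) (.node 1 (.leaf 0x888888888) (.leaf 0x888888888)))) (.node 4 (.node 2 (.node 1 (.leaf 0x888888888) (.leaf 0x888888888)) (.node 1 (.leaf 0x888888888) (.leaf 0x888888888))) (.node 2 (.node 1 (.leaf 0x888888888) (.leaf 0x888888888)) (.node 1 (.leaf 0x888888888) (.leaf 0x888888888)))))) (.node 16 (.node 8 (.node 4 (.node 2 (.node 1 (.leaf 0x888888888) (.leaf 0x888888888)) (.node 1 (.leaf 0x888888888) (.leaf 0x888888888))) (.node 2 (.node 1 (.leaf 0x888888888) (.leaf 0x888888888)) (.node 1 (.leaf 0x888888888) (.leaf 0x888888888)))) (.node 4 (.node 2 (.node 1 (.leaf 0x888888888) (.leaf 0x888888888)) (.node 1 (.leaf 0x888888888) (.leaf 0x888888888))) (.node 2 (.node 1 (.leaf 0x888888888) (.leaf 0x888888888)) (.node 1 (.leaf 0x888888888) (.leaf 0x888888888))))) (.node 8 (.node 4 (.node 2 (.node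 1 (.leaf 0x888888888) (.leaf 0x888888888)) (.node 1 (.leaf 0x888888888) (.leaf 0x888888888))) (.node 2 (.node 1 (.leaf 0x888888888) (.leaf 0x888888888)) (.node 1 (.leaf 0x888888888) (.leaf 0x888888888)))) (.node 4 (.node 2 (.node 1 (.leaf 0x888888888) (.leaf 0x888888888)) (.node 1 (.leaf 0x888888888) (.leaf 0x888888888))) (.node 2 (.node 1 (.leaf 0x888888888) (.leaf 0x888888888)) (.node 1 (.leaf 0x888888888) (.leaf 0x888888888)))))))

/-- Table data. -/
def tabVB_0_13 : Tab :=
  (.node 32 (.node 16 (.node 8 (.node 4 (.node 2 (.node 1 (.leaf 0x888888888) (.leaf 0x888888888)) (.node 1 (.leaf 0x888888888) (.leaf 0x888888888))) (.node 2 (.node 1 (.leaf 0x888888888) (.leaf 0x888888888)) (.node 1 (.leaf 0x888888888) (.leaf 0x888888888)))) (.node 4 (.node 2 (.node 1 (.leaf 0x888888888) (.leaf 0x888888888)) (.node 1 (.leaf 0x888888888) (.leaf 0x888888888))) (.node 2 (.node 1 (.leaf 0x888888888) (.leaf 0x888888888)) (.node 1 (.leaf 0x888888888) (.leaf 0x888888888)))))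 (.node 8 (.node 4 (.node 2 (.node 1 (.leaf 0x888888888) (.leaf 0x888888888)) (.node 1 (.leaf 0x888888888) (.leaf 0x888888888))) (.node 2 (.node 1 (.leaf 0x888888888) (.leaf 0x888888888)) (.node 1 (.leaf 0x888888888) (.leaf 0x888888888)))) (.node 4 (.node 2 (.node 1 (.leaf 0x888888888) (.leaf 0x888888888)) (.node 1 (.leaf 0x888888888) (.leaf 0x888888888))) (.node 2 (.node 1 (.leaf 0x888888888) (.leaf 0x888888888)) (.node 1 (.leaf 0x888888888) (.leaf 0x888888888)))))) (.node 16 (.node 8 (.node 4 (.node 2 (.node 1 (.leaf 0x888888888) (.leaf 0x888888888)) (.node 1 (.leaf 0x888888888) (.leaf 0x888888888))) (.node 2 (.node 1 (.leaf 0x888888888) (.leaf 0x888888888)) (.node 1 (.leaf 0x888888888) (.leaf 0x888888888)))) (.node 4 (.node 2 (.node 1 (.leaf 0x888888888) (.leaf 0x888888888)) (.node 1 (.leaf 0x888888888) (.leaf 0x888888888))) (.node 2 (.node 1 (.leaf 0x888888888) (.leaf 0x888888888)) (.node 1 (.leaf 0x888888888) (.leaf 0x888888888))))) (.node 8 (.node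 4 (.node 2 (.node 1 (.leaf 0x888888888) (.leaf 0x888888888)) (.node 1 (.leaf 0x888888888) (.leaf 0x888888888))) (.node 2 (.node 1 (.leaf 0x888888888) (.leaf 0x888888888)) (.node 1 (.leaf 0x888888888) (.leaf 0x888888888)))) (.node 4 (.node 2 (.node 1 (.leaf 0x888888888) (.leaf 0x888888888)) (.node 1 (.leaf 0x888888888) (.leaf 0x888888888))) (.node 2 (.node 1 (.leaf 0x888888888) (.leaf 0x888888888)) (.node 1 (.leaf 0x888888888) (.leaf 0x888888888)))))))

/-- Table data. -/
def tabVB_0_14 : Tab :=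
  (.node 32 (.node 16 (.node 8 (.node 4 (.node 2 (.node 1 (.leaf 0x888888888) (.leaf 0x888888888)) (.node 1 (.leaf 0x888888888) (.leaf 0x888888888))) (.node 2 (.node 1 (.leaf 0x888888888) (.leaf 0x888888888)) (.node 1 (.leaf 0x888888888) (.leaf 0x888888888)))) (.node 4 (.node 2 (.node 1 (.leaf 0x888888888) (.leaf 0x888888888)) (.node 1 (.leaf 0x888888888) (.leaf 0x888888888))) (.node 2 (.node 1 (.leaf 0x888888888) (.leaf 0x888888888)) (.node 1 (.leaf 0x888888888) (.leaf 0x888888888))))) (.node 8 (.node 4 (.node 2 (.node 1 (.leaf 0x888888888) (.leaf 0x888888888)) (.node 1 (.leaf 0x888888888) (.leaf 0x888888888))) (.node 2 (.node 1 (.leaf 0x888888888) (.leaf 0x888888888)) (.node 1 (.leaf 0x888888888) (.leaf 0x888888888)))) (.node 4 (.node 2 (.node 1 (.leaf 0x888888888) (.leaf 0x888888888)) (.node 1 (.leaf 0x888888888) (.leaf 0x888888888))) (.node 2 (.node 1 (.leaf 0x888888888) (.leaf 0x888888888)) (.node 1 (.leaf 0x888888888) (.leaf 0x888888888)))))) (.node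 16 (.node 8 (.node 4 (.node 2 (.node 1 (.leaf 0x888888888) (.leaf 0x888888888)) (.node 1 (.leaf 0x888888888) (.leaf 0x888888888))) (.node 2 (.node 1 (.leaf 0x888888888) (.leaf 0x888888888)) (.node 1 (.leaf 0x888888888) (.leaf 0x888888888)))) (.node 4 (.node 2 (.node 1 (.leaf 0x888888888) (.leaf 0x888888888)) (.node 1 (.leaf 0x888888888) (.leaf 0x888888888))) (.node 2 (.node 1 (.leaf 0x888888888) (.leaf 0x888888888)) (.node 1 (.leaf 0x888888888) (.leaf 0x888888888))))) (.node 8 (.node 4 (.node 2 (.node 1 (.leaf 0x888888888) (.leaf 0x888888888)) (.node 1 (.leaf 0x888888888) (.leaf 0x888888888))) (.node 2 (.node 1 (.leaf 0x888888888) (.leaf 0x888888888)) (.node 1 (.leaf 0x888888888) (.leaf 0x888888888)))) (.node 4 (.node 2 (.node 1 (.leaf 0x888888888) (.leaf 0x888888888)) (.node 1 (.leaf 0x888888888) (.leaf 0x888888888))) (.node 2 (.node 1 (.leaf 0x888888888) (.leaf 0x888888888)) (.node 1 (.leaf 0x888888888) (.leaf 0x888888888)))))))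

/-- Table data. -/
def tabVB_0_15 : Tab :=
  (.node 32 (.node 16 (.node 8 (.node 4 (.node 2 (.node 1 (.leaf 0x888888888) (.leaf 0x888888888)) (.node 1 (.leaf 0x888888888) (.leaf 0x888888888))) (.node 2 (.node 1 (.leaf 0x888888888) (.leaf 0x888888888)) (.node 1 (.leaf 0x888888888) (.leaf 0x888888888)))) (.node 4 (.node 2 (.node 1 (.leaf 0x888888888) (.leaf 0x888888888)) (.node 1 (.leaf 0x888888888) (.leaf 0x888888888))) (.node 2 (.node 1 (.leaf 0x888888888) (.leaf 0x888888888)) (.node 1 (.leaf 0x888888888) (.leaf 0x888888888))))) (.node 8 (.node 4 (.node 2 (.node 1 (.leaf 0x888888888) (.leaf 0x888888888)) (.node 1 (.leaf 0x888888888) (.leaf 0x888888888))) (.node 2 (.node 1 (.leaf 0x888888888) (.leaf 0x888888888)) (.node 1 (.leaf 0x888888888) (.leaf 0x888888888)))) (.node 4 (.node 2 (.node 1 (.leaf 0x888888888) (.leaf 0x888888888)) (.node 1 (.leaf 0x888888888) (.leaf 0x888888888))) (.node 2 (.node 1 (.leaf 0x888888888) (.leaf 0x888888888)) (.node 1 (.leaf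 0x888888888) (.leaf 0x888888888)))))) (.node 16 (.node 8 (.node 4 (.node 2 (.node 1 (.leaf 0x888888888) (.leaf 0x888888888)) (.node 1 (.leaf 0x888888888) (.leaf 0x888888888))) (.node 2 (.node 1 (.leaf 0x888888888) (.leaf 0x888888888)) (.node 1 (.leaf 0x888888888) (.leaf 0x888888888)))) (.node 4 (.node 2 (.node 1 (.leaf 0x888888888) (.leaf 0x888888888)) (.node 1 (.leaf 0x888888888) (.leaf 0x888888888))) (.node 2 (.node 1 (.leaf 0x888888888) (.leaf 0x888888888)) (.node 1 (.leaf 0x888888888) (.leaf 0x888888888))))) (.node 8 (.node 4 (.node 2 (.node 1 (.leaf 0x888888888) (.leaf 0x888888888)) (.node 1 (.leaf 0x888888888) (.leaf 0x888888888))) (.node 2 (.node 1 (.leaf 0x888888888) (.leaf 0x888888888)) (.node 1 (.leaf 0x888888888) (.leaf 0x888888888)))) (.node 4 (.node 2 (.node 1 (.leaf 0x888888888) (.leaf 0x888888888)) (.node 1 (.leaf 0x888888888) (.leaf 0x888888888))) (.node 2 (.node 1 (.leaf 0x888888888) (.leaf 0x888888888)) (.node 1 (.leaf 0x888888888) (.leaf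 0x888888888)))))))

/-- Table data. -/
def tabVB_0_16 : Tab :=
  (.node 32 (.node 16 (.node 8 (.node 4 (.node 2 (.node 1 (.leaf 0x888888888) (.leaf 0x888888888)) (.node 1 (.leaf 0x888888888) (.leaf 0x888888888))) (.node 2 (.node 1 (.leaf 0x888888888) (.leaf 0x888888888)) (.node 1 (.leaf 0x888888888) (.leaf 0x888888888)))) (.node 4 (.node 2 (.node 1 (.leaf 0x888888888) (.leaf 0x888888888)) (.node 1 (.leaf 0x888888888) (.leaf 0x888888888))) (.node 2 (.node 1 (.leaf 0x888888888) (.leaf 0x888888888)) (.node 1 (.leaf 0x888888888) (.leaf 0x888888888))))) (.node 8 (.node 4 (.node 2 (.node 1 (.leaf 0x888888888) (.leaf 0x888888888)) (.node 1 (.leaf 0x888888888) (.leaf 0x888888888))) (.node 2 (.node 1 (.leaf 0x888888888) (.leaf 0x888888888)) (.node 1 (.leaf 0x888888888) (.leaf 0x888888888)))) (.node 4 (.node 2 (.node 1 (.leaf 0x888888888) (.leaf 0x888888888)) (.node 1 (.leaf 0x888888888) (.leaf 0x888888888))) (.node 2 (.node 1 (.leaf 0x888888888) (.leaf 0x888888888))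 (.node 1 (.leaf 0x888888888) (.leaf 0x888888888)))))) (.node 16 (.node 8 (.node 4 (.node 2 (.node 1 (.leaf 0x888888888) (.leaf 0x888888888)) (.node 1 (.leaf 0x888888888) (.leaf 0x888888888))) (.node 2 (.node 1 (.leaf 0x888888888) (.leaf 0x888888888)) (.node 1 (.leaf 0x888888888) (.leaf 0x888888888)))) (.node 4 (.node 2 (.node 1 (.leaf 0x888888888) (.leaf 0x888888888)) (.node 1 (.leaf 0x888888888) (.leaf 0x888888888))) (.node 2 (.node 1 (.leaf 0x888888888) (.leaf 0x888888888)) (.node 1 (.leaf 0x888888888) (.leaf 0x888888888))))) (.node 8 (.node 4 (.node 2 (.node 1 (.leaf 0x888888888) (.leaf 0x888888888)) (.node 1 (.leaf 0x888888888) (.leaf 0x888888888))) (.node 2 (.node 1 (.leaf 0x888888888) (.leaf 0x888888888)) (.node 1 (.leaf 0x888888888) (.leaf 0x888888888)))) (.node 4 (.node 2 (.node 1 (.leaf 0x888888888) (.leaf 0x888888888)) (.node 1 (.leaf 0x888888888) (.leaf 0x888888888))) (.node 2 (.node 1 (.leaf 0x888888888) (.leaf 0x888888888)) (.node 1 (.leaf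 0x888888888) (.leaf 0x888888888)))))))

/-- Table data. -/
def tabVB_0_17 : Tab :=
  (.node 32 (.node 16 (.node 8 (.node 4 (.node 2 (.node 1 (.leaf 0x888888888) (.leaf 0x888888888)) (.node 1 (.leaf 0x888888888) (.leaf 0x888888888))) (.node 2 (.node 1 (.leaf 0x888888888) (.leaf 0x888888888)) (.node 1 (.leaf 0x888888888) (.leaf 0x888888888)))) (.node 4 (.node 2 (.node 1 (.leaf 0x888888888) (.leaf 0x888888888)) (.node 1 (.leaf 0x888888888) (.leaf 0x888888888))) (.node 2 (.node 1 (.leaf 0x888888888) (.leaf 0x888888888)) (.node 1 (.leaf 0x888888888) (.leaf 0x888888888))))) (.node 8 (.node 4 (.node 2 (.node 1 (.leaf 0x888888888) (.leaf 0x888888888)) (.node 1 (.leaf 0x888888888) (.leaf 0x888888888))) (.node 2 (.node 1 (.leaf 0x888888888) (.leaf 0x888888888)) (.node 1 (.leaf 0x888888888) (.leaf 0x888888888)))) (.node 4 (.node 2 (.node 1 (.leaf 0x888888888) (.leaf 0x888888888)) (.node 1 (.leaf 0x888888888) (.leaf 0x888888888))) (.node 2 (.node 1 (.leaf 0x888888888)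 (.leaf 0x888888888)) (.node 1 (.leaf 0x888888888) (.leaf 0x888888888)))))) (.node 16 (.node 8 (.node 4 (.node 2 (.node 1 (.leaf 0x888888888) (.leaf 0x888888888)) (.node 1 (.leaf 0x888888888) (.leaf 0x888888888))) (.node 2 (.node 1 (.leaf 0x888888888) (.leaf 0x888888888)) (.node 1 (.leaf 0x888888888) (.leaf 0x888888888)))) (.node 4 (.node 2 (.node 1 (.leaf 0x888888888) (.leaf 0x888888888)) (.node 1 (.leaf 0x888888888) (.leaf 0x888888888))) (.node 2 (.node 1 (.leaf 0x888888888) (.leaf 0x888888888)) (.node 1 (.leaf 0x888888888) (.leaf 0x888888888))))) (.node 8 (.node 4 (.node 2 (.node 1 (.leaf 0x888888888) (.leaf 0x888888888)) (.node 1 (.leaf 0x888888888) (.leaf 0x888888888))) (.node 2 (.node 1 (.leaf 0x888888888) (.leaf 0x888888888)) (.node 1 (.leaf 0x888888888) (.leaf 0x888888888)))) (.node 4 (.node 2 (.node 1 (.leaf 0x888888888) (.leaf 0x888888888)) (.node 1 (.leaf 0x888888888) (.leaf 0x888888888))) (.node 2 (.node 1 (.leaf 0x888888888) (.leaf 0x888888888))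 (.node 1 (.leaf 0x888888888) (.leaf 0x888888888)))))))

/-- Table data. -/
def tabVB_0_18 : Tab :=
  (.node 32 (.node 16 (.node 8 (.node 4 (.node 2 (.node 1 (.leaf 0x888888888) (.leaf 0x888888888)) (.node 1 (.leaf 0x888888888) (.leaf 0x888888888))) (.node 2 (.node 1 (.leaf 0x888888888) (.leaf 0x888888888)) (.node 1 (.leaf 0x888888888) (.leaf 0x888888888)))) (.node 4 (.node 2 (.node 1 (.leaf 0x888888888) (.leaf 0x888888888)) (.node 1 (.leaf 0x888888888) (.leaf 0x888888888))) (.node 2 (.node 1 (.leaf 0x888888888) (.leaf 0x888888888)) (.node 1 (.leaf 0x888888888) (.leaf 0x888888888))))) (.node 8 (.node 4 (.node 2 (.node 1 (.leaf 0x888888888) (.leaf 0x888888888)) (.node 1 (.leaf 0x888888888) (.leaf 0x888888888))) (.node 2 (.node 1 (.leaf 0x888888888) (.leaf 0x888888888)) (.node 1 (.leaf 0x888888888) (.leaf 0x888888888)))) (.node 4 (.node 2 (.node 1 (.leaf 0x888888888) (.leaf 0x888888888)) (.node 1 (.leaf 0x888888888) (.leaf 0x888888988))) (.node 2 (.node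 1 (.leaf 0x898888888) (.leaf 0x888888889)) (.node 1 (.leaf 0x888988888) (.leaf 0x889888888)))))) (.node 16 (.node 8 (.node 4 (.node 2 (.node 1 (.leaf 0x888889888) (.leaf 0x988888888)) (.node 1 (.leaf 0x888898888) (.leaf 0x888898888))) (.node 2 (.node 1 (.leaf 0x888888898) (.leaf 0x888888899)) (.node 1 (.leaf 0x898888889) (.leaf 0x888898889)))) (.node 4 (.node 2 (.node 1 (.leaf 0x888898889) (.leaf 0x888898889)) (.node 1 (.leaf 0x888898889) (.leaf 0x888898889))) (.node 2 (.node 1 (.leaf 0x888898889) (.leaf 0x888988888)) (.node 1 (.leaf 0x888988898) (.leaf 0x888889988))))) (.node 8 (.node 4 (.node 2 (.node 1 (.leaf 0x888889989) (.leaf 0x888888989)) (.node 1 (.leaf 0x888888989) (.leaf 0x888888989))) (.node 2 (.node 1 (.leaf 0x988898989) (.leaf 0x898888889)) (.node 1 (.leaf 0x898888889) (.leaf 0x898888889)))) (.node 4 (.node 2 (.node 1 (.leaf 0x888888889) (.leaf 0x888898888)) (.node 1 (.leaf 0x888898888) (.leaf 0x888898888))) (.node 2 (.node 1 (.leaf 0x888898888)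 (.leaf 0x898888988)) (.node 1 (.leaf 0x888988898) (.leaf 0x888888898)))))))

/-- Table data. -/
def tabVB_0_19 : Tab :=
  (.node 32 (.node 16 (.node 8 (.node 4 (.node 2 (.node 1 (.leaf 0x888888988) (.leaf 0x888898888)) (.node 1 (.leaf 0x888898888) (.leaf 0x888898888))) (.node 2 (.node 1 (.leaf 0x888898989) (.leaf 0x888888889)) (.node 1 (.leaf 0x888888889) (.leaf 0x888888989)))) (.node 4 (.node 2 (.node 1 (.leaf 0x888888989) (.leaf 0x888888989)) (.node 1 (.leaf 0x888898989) (.leaf 0x888898989))) (.node 2 (.node 1 (.leaf 0x888898989) (.leaf 0x888898989)) (.node 1 (.leaf 0x888888988) (.leaf 0x888888988))))) (.node 8 (.node 4 (.node 2 (.node 1 (.leaf 0x888888988) (.leaf 0x888898988)) (.node 1 (.leaf 0x888888889) (.leaf 0x888888989))) (.node 2 (.node 1 (.leaf 0x888888989) (.leaf 0x888988888)) (.node 1 (.leaf 0x888988999) (.leaf 0x889888988)))) (.node 4 (.node 2 (.node 1 (.leaf 0x888899989) (.leaf 0x889888988)) (.node 1 (.leaf 0x988898989) (.leaf 0x888898888)))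 (.node 2 (.node 1 (.leaf 0x888889889) (.leaf 0x888989899)) (.node 1 (.leaf 0x898989898) (.leaf 0x898888899)))))) (.node 16 (.node 8 (.node 4 (.node 2 (.node 1 (.leaf 0x888989889) (.leaf 0x898988898)) (.node 1 (.leaf 0x898888898) (.leaf 0x888989899))) (.node 2 (.node 1 (.leaf 0x999988998) (.leaf 0x998888888)) (.node 1 (.leaf 0x898888888) (.leaf 0x888888888)))) (.node 4 (.node 2 (.node 1 (.leaf 0x899988998) (.leaf 0x989988998)) (.node 1 (.leaf 0x898888888) (.leaf 0x898988898))) (.node 2 (.node 1 (.leaf 0x888899889) (.leaf 0x898998898)) (.node 1 (.leaf 0x989988998) (.leaf 0x898999898))))) (.node 8 (.node 4 (.node 2 (.node 1 (.leaf 0x898898888) (.leaf 0x888889988)) (.node 1 (.leaf 0x888989888) (.leaf 0x898888998))) (.node 2 (.node 1 (.leaf 0x898888998) (.leaf 0x988898999)) (.node 1 (.leaf 0x988898999) (.leaf 0x988898999)))) (.node 4 (.node 2 (.node 1 (.leaf 0x998888998) (.leaf 0x888888898)) (.node 1 (.leaf 0x888888898) (.leaf 0x988898989))) (.node 2 (.node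 1 (.leaf 0x888899888) (.leaf 0x888889998)) (.node 1 (.leaf 0x888889988) (.leaf 0x888889988)))))))

/-- Table data. -/
def tabVB_0_20 : Tab :=
  (.node 32 (.node 16 (.node 8 (.node 4 (.node 2 (.node 1 (.leaf 0x888889988) (.leaf 0x888889988)) (.node 1 (.leaf 0x888889988) (.leaf 0x898888898))) (.node 2 (.node 1 (.leaf 0x898889889) (.leaf 0x888989898)) (.node 1 (.leaf 0x888898989) (.leaf 0x898899898)))) (.node 4 (.node 2 (.node 1 (.leaf 0x888888898) (.leaf 0x888888888)) (.node 1 (.leaf 0x888888888) (.leaf 0x888888888))) (.node 2 (.node 1 (.leaf 0x888898888) (.leaf 0x998899999)) (.node 1 (.leaf 0x888888899) (.leaf 0x889988888))))) (.node 8 (.node 4 (.node 2 (.node 1 (.leaf 0x888888889) (.leaf 0x888898899)) (.node 1 (.leaf 0x898899998) (.leaf 0x888888899))) (.node 2 (.node 1 (.leaf 0x888898888) (.leaf 0x889988988)) (.node 1 (.leaf 0x898998899) (.leaf 0x988888888)))) (.node 4 (.node 2 (.node 1 (.leaf 0x888888898) (.leaf 0x898998888)) (.node 1 (.leaf 0x888888898)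 (.leaf 0x988888988))) (.node 2 (.node 1 (.leaf 0x898888888) (.leaf 0x898888888)) (.node 1 (.leaf 0x898888999) (.leaf 0x888888898)))))) (.node 16 (.node 8 (.node 4 (.node 2 (.node 1 (.leaf 0x898988989) (.leaf 0x888888889)) (.node 1 (.leaf 0x888989989) (.leaf 0x888898888))) (.node 2 (.node 1 (.leaf 0x888898889) (.leaf 0x888888889)) (.node 1 (.leaf 0x888888888) (.leaf 0x898988999)))) (.node 4 (.node 2 (.node 1 (.leaf 0x888889889) (.leaf 0x888888889)) (.node 1 (.leaf 0x888898888) (.leaf 0x888988989))) (.node 2 (.node 1 (.leaf 0x889898988) (.leaf 0x989888889)) (.node 1 (.leaf 0x888889888) (.leaf 0x888888899))))) (.node 8 (.node 4 (.node 2 (.node 1 (.leaf 0x988888989) (.leaf 0x888888988)) (.node 1 (.leaf 0x888888889) (.leaf 0x888888988))) (.node 2 (.node 1 (.leaf 0x888888888) (.leaf 0x888888888)) (.node 1 (.leaf 0x888888888) (.leaf 0x888888888)))) (.node 4 (.node 2 (.node 1 (.leaf 0x888888889) (.leaf 0x888888889)) (.node 1 (.leaf 0x888888888) (.leaf 0x888888888)))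 (.node 2 (.node 1 (.leaf 0x888888888) (.leaf 0x888888888)) (.node 1 (.leaf 0x888888888) (.leaf 0x888888888)))))))

/-- Table data. -/
def tabVB_0_21 : Tab :=
  (.node 32 (.node 16 (.node 8 (.node 4 (.node 2 (.node 1 (.leaf 0x888888888) (.leaf 0x888888888)) (.node 1 (.leaf 0x888889988) (.leaf 0x898888888))) (.node 2 (.node 1 (.leaf 0x888988889) (.leaf 0x898888988)) (.node 1 (.leaf 0x898988988) (.leaf 0x988898889)))) (.node 4 (.node 2 (.node 1 (.leaf 0x998898889) (.leaf 0x998898889)) (.node 1 (.leaf 0x998898889) (.leaf 0x998898889))) (.node 2 (.node 1 (.leaf 0x888898889) (.leaf 0x888898888)) (.node 1 (.leaf 0x888988999) (.leaf 0x888888888))))) (.node 8 (.node 4 (.node 2 (.node 1 (.leaf 0x888888888) (.leaf 0x898898889)) (.node 1 (.leaf 0x888888888) (.leaf 0x888888888))) (.node 2 (.node 1 (.leaf 0x888888888) (.leaf 0x988888889)) (.node 1 (.leaf 0x898888888) (.leaf 0x888988888)))) (.node 4 (.node 2 (.node 1 (.leaf 0x888988898) (.leaf 0x888888988)) (.node 1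 (.leaf 0x888888898) (.leaf 0x888898889))) (.node 2 (.node 1 (.leaf 0x888888889) (.leaf 0x888889998)) (.node 1 (.leaf 0x898888988) (.leaf 0x898888989)))))) (.node 16 (.node 8 (.node 4 (.node 2 (.node 1 (.leaf 0x888898889) (.leaf 0x888898889)) (.node 1 (.leaf 0x888989999) (.leaf 0x888889998))) (.node 2 (.node 1 (.leaf 0x898889898) (.leaf 0x898889898)) (.node 1 (.leaf 0x898988999) (.leaf 0x888889899)))) (.node 4 (.node 2 (.node 1 (.leaf 0x888989898) (.leaf 0x888889899)) (.node 1 (.leaf 0x888888989) (.leaf 0x898889888))) (.node 2 (.node 1 (.leaf 0x888888888) (.leaf 0x898888999)) (.node 1 (.leaf 0x888888888) (.leaf 0x888988898))))) (.node 8 (.node 4 (.node 2 (.node 1 (.leaf 0x888888888) (.leaf 0x888989888)) (.node 1 (.leaf 0x898889899) (.leaf 0x898889898))) (.node 2 (.node 1 (.leaf 0x888988899) (.leaf 0x988888888)) (.node 1 (.leaf 0x998888888) (.leaf 0x888899988)))) (.node 4 (.node 2 (.node 1 (.leaf 0x888899989) (.leaf 0x888889989)) (.node 1 (.leaf 0x899989899)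 (.leaf 0x899989899))) (.node 2 (.node 1 (.leaf 0x888888888) (.leaf 0x998888888)) (.node 1 (.leaf 0x998888888) (.leaf 0x988888888)))))))

/-- Table data. -/
def tabVB_0_22 : Tab :=
  (.node 32 (.node 16 (.node 8 (.node 4 (.node 2 (.node 1 (.leaf 0x888998888) (.leaf 0x888898888)) (.node 1 (.leaf 0x888888898) (.leaf 0x888888988))) (.node 2 (.node 1 (.leaf 0x988888888) (.leaf 0x888898889)) (.node 1 (.leaf 0x888888889) (.leaf 0x888898889)))) (.node 4 (.node 2 (.node 1 (.leaf 0x888898889) (.leaf 0x888898889)) (.node 1 (.leaf 0x888898889) (.leaf 0x888898889))) (.node 2 (.node 1 (.leaf 0x888898889) (.leaf 0x888898889)) (.node 1 (.leaf 0x888898889) (.leaf 0x888898889))))) (.node 8 (.node 4 (.node 2 (.node 1 (.leaf 0x888898889) (.leaf 0x888898889)) (.node 1 (.leaf 0x888898889) (.leaf 0x888898889))) (.node 2 (.node 1 (.leaf 0x888898889) (.leaf 0x888898889)) (.node 1 (.leaf 0x888898888) (.leaf 0x888898888)))) (.node 4 (.node 2 (.node 1 (.leaf 0x888898888) (.leaf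 0x888988888)) (.node 1 (.leaf 0x888988888) (.leaf 0x888988898))) (.node 2 (.node 1 (.leaf 0x988898888) (.leaf 0x988898889)) (.node 1 (.leaf 0x888898898) (.leaf 0x898898899)))))) (.node 16 (.node 8 (.node 4 (.node 2 (.node 1 (.leaf 0x898998889) (.leaf 0x888989888)) (.node 1 (.leaf 0x898898988) (.leaf 0x888888999))) (.node 2 (.node 1 (.leaf 0x888888899) (.leaf 0x898888999)) (.node 1 (.leaf 0x998888889) (.leaf 0x888888889)))) (.node 4 (.node 2 (.node 1 (.leaf 0x888898889) (.leaf 0x888898889)) (.node 1 (.leaf 0x888898889) (.leaf 0x888898889))) (.node 2 (.node 1 (.leaf 0x888888889) (.leaf 0x888888888)) (.node 1 (.leaf 0x988899888) (.leaf 0x988899988))))) (.node 8 (.node 4 (.node 2 (.node 1 (.leaf 0x988889888) (.leaf 0x988888989)) (.node 1 (.leaf 0x888988898) (.leaf 0x888988989))) (.node 2 (.node 1 (.leaf 0x888898898) (.leaf 0x888888898)) (.node 1 (.leaf 0x888888988) (.leaf 0x888898889)))) (.node 4 (.node 2 (.node 1 (.leaf 0x888898889) (.leaf 0x888988898))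 (.node 1 (.leaf 0x888898889) (.leaf 0x888898889))) (.node 2 (.node 1 (.leaf 0x888989998) (.leaf 0x888988888)) (.node 1 (.leaf 0x998989889) (.leaf 0x998888998)))))))

/-- Table data. -/
def tabVB_0_23 : Tab :=
  (.node 32 (.node 16 (.node 8 (.node 4 (.node 2 (.node 1 (.leaf 0x888988888) (.leaf 0x888988898)) (.node 1 (.leaf 0x888888988) (.leaf 0x888888898))) (.node 2 (.node 1 (.leaf 0x888889998) (.leaf 0x888888988)) (.node 1 (.leaf 0x898898988) (.leaf 0x898898989)))) (.node 4 (.node 2 (.node 1 (.leaf 0x898899989) (.leaf 0x888898888)) (.node 1 (.leaf 0x888898988) (.leaf 0x888898989))) (.node 2 (.node 1 (.leaf 0x888898989) (.leaf 0x888898989)) (.node 1 (.leaf 0x888888988) (.leaf 0x888888989))))) (.node 8 (.node 4 (.node 2 (.node 1 (.leaf 0x888898989) (.leaf 0x888898888)) (.node 1 (.leaf 0x888898988) (.leaf 0x888888888))) (.node 2 (.node 1 (.leaf 0x888888888) (.leaf 0x888888988)) (.node 1 (.leaf 0x888888989) (.leaf 0x888898989)))) (.node 4 (.node 2 (.node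 1 (.leaf 0x888898989) (.leaf 0x888898888)) (.node 1 (.leaf 0x888898889) (.leaf 0x888888889))) (.node 2 (.node 1 (.leaf 0x888888889) (.leaf 0x888988999)) (.node 1 (.leaf 0x899998999) (.leaf 0x998898899)))))) (.node 16 (.node 8 (.node 4 (.node 2 (.node 1 (.leaf 0x998898889) (.leaf 0x988888888)) (.node 1 (.leaf 0x888888888) (.leaf 0x898888899))) (.node 2 (.node 1 (.leaf 0x898888898) (.leaf 0x888889889)) (.node 1 (.leaf 0x888889989) (.leaf 0x888889888)))) (.node 4 (.node 2 (.node 1 (.leaf 0x888889888) (.leaf 0x888899888)) (.node 1 (.leaf 0x888899889) (.leaf 0x888898888))) (.node 2 (.node 1 (.leaf 0x998888999) (.leaf 0x998899989)) (.node 1 (.leaf 0x988889989) (.leaf 0x888898888))))) (.node 8 (.node 4 (.node 2 (.node 1 (.leaf 0x988889988) (.leaf 0x998898888)) (.node 1 (.leaf 0x998898988) (.leaf 0x998998888))) (.node 2 (.node 1 (.leaf 0x998998898) (.leaf 0x998898898)) (.node 1 (.leaf 0x998898898) (.leaf 0x998898989)))) (.node 4 (.node 2 (.node 1 (.leaf 0x998888989)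 (.leaf 0x998888889)) (.node 1 (.leaf 0x988898999) (.leaf 0x988998999))) (.node 2 (.node 1 (.leaf 0x898999898) (.leaf 0x998899889)) (.node 1 (.leaf 0x998999999) (.leaf 0x898898888)))))))

/-- Table data. -/
def tabVB_0_24 : Tab :=
  (.node 32 (.node 16 (.node 8 (.node 4 (.node 2 (.node 1 (.leaf 0x898898888) (.leaf 0x998988998)) (.node 1 (.leaf 0x888998998) (.leaf 0x998999998))) (.node 2 (.node 1 (.leaf 0x998899888) (.leaf 0x988888889)) (.node 1 (.leaf 0x998899889) (.leaf 0x899889888)))) (.node 4 (.node 2 (.node 1 (.leaf 0x899889898) (.leaf 0x988888889)) (.node 1 (.leaf 0x898898898) (.leaf 0x898898898))) (.node 2 (.node 1 (.leaf 0x998998888) (.leaf 0x998998888)) (.node 1 (.leaf 0x998998888) (.leaf 0x998998888))))) (.node 8 (.node 4 (.node 2 (.node 1 (.leaf 0x998898999) (.leaf 0x998898999)) (.node 1 (.leaf 0x998898999) (.leaf 0x988888899))) (.node 2 (.node 1 (.leaf 0x988898898) (.leaf 0x988898898)) (.node 1 (.leaf 0x988898898) (.leaf 0x988898898)))) (.node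 4 (.node 2 (.node 1 (.leaf 0x988898898) (.leaf 0x988998889)) (.node 1 (.leaf 0x998999899) (.leaf 0x988998889))) (.node 2 (.node 1 (.leaf 0x998999998) (.leaf 0x988998898)) (.node 1 (.leaf 0x988998898) (.leaf 0x998998998)))))) (.node 16 (.node 8 (.node 4 (.node 2 (.node 1 (.leaf 0x998998998) (.leaf 0x898988998)) (.node 1 (.leaf 0x988888998) (.leaf 0x988989988))) (.node 2 (.node 1 (.leaf 0x988989988) (.leaf 0x988989988)) (.node 1 (.leaf 0x988989889) (.leaf 0x988989889)))) (.node 4 (.node 2 (.node 1 (.leaf 0x988989989) (.leaf 0x998989889)) (.node 1 (.leaf 0x898888988) (.leaf 0x898898889))) (.node 2 (.node 1 (.leaf 0x898898889) (.leaf 0x898888988)) (.node 1 (.leaf 0x898888988) (.leaf 0x998998899))))) (.node 8 (.node 4 (.node 2 (.node 1 (.leaf 0x998999989) (.leaf 0x989989988)) (.node 1 (.leaf 0x998888899) (.leaf 0x998888899))) (.node 2 (.node 1 (.leaf 0x888989888) (.leaf 0x888889889)) (.node 1 (.leaf 0x989898999) (.leaf 0x998999998)))) (.node 4 (.node 2 (.node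 1 (.leaf 0x888989898) (.leaf 0x888989899)) (.node 1 (.leaf 0x888989898) (.leaf 0x888989888))) (.node 2 (.node 1 (.leaf 0x898889889) (.leaf 0x898989889)) (.node 1 (.leaf 0x898988899) (.leaf 0x989989898)))))))

/-- Table data. -/
def tabVB_0_25 : Tab :=
  (.node 18 (.node 9 (.node 4 (.node 2 (.node 1 (.leaf 0x998998988) (.leaf 0x998888988)) (.node 1 (.leaf 0x989988899) (.leaf 0x989989888))) (.node 2 (.node 1 (.leaf 0x998989888) (.leaf 0x888989889)) (.node 1 (.leaf 0x888989899) (.node 1 (.leaf 0x998888899) (.leaf 0x899989899))))) (.node 4 (.node 2 (.node 1 (.leaf 0x998989989) (.leaf 0x998989989)) (.node 1 (.leaf 0x888999889) (.leaf 0x888999888))) (.node 2 (.node 1 (.leaf 0x888999898) (.leaf 0x888998898)) (.node 1 (.leaf 0x898998889) (.node 1 (.leaf 0x998998899) (.leaf 0x898899999)))))) (.node 9 (.node 4 (.node 2 (.node 1 (.leaf 0x898999999) (.leaf 0x898999999)) (.node 1 (.leaf 0x898999999) (.leaf 0x898999999))) (.node 2 (.node 1 (.leaf 0x898999999) (.leaf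 0x898999999)) (.node 1 (.leaf 0x888899889) (.node 1 (.leaf 0x888889988) (.leaf 0x888889988))))) (.node 4 (.node 2 (.node 1 (.leaf 0x888889988) (.leaf 0x889898889)) (.node 1 (.leaf 0x889898899) (.leaf 0x988989999))) (.node 2 (.node 1 (.leaf 0x988989989) (.leaf 0x988989989)) (.node 1 (.leaf 0x898989899) (.node 1 (.leaf 0x888989989) (.leaf 0x888989989)))))))

/-- Table data. -/
def tabVB_0 : Tab :=
  (.node 832 (.node 384 (.node 192 (.node 64 tabVB_0_0 (.node 64 tabVB_0_1 tabVB_0_2)) (.node 64 tabVB_0_3 (.node 64 tabVB_0_4 tabVB_0_5))) (.node 192 (.node 64 tabVB_0_6 (.node 64 tabVB_0_7 tabVB_0_8)) (.node 128 (.node 64 tabVB_0_9 tabVB_0_10) (.node 64 tabVB_0_11 tabVB_0_12)))) (.node 384 (.node 192 (.node 64 tabVB_0_13 (.node 64 tabVB_0_14 tabVB_0_15)) (.node 64 tabVB_0_16 (.node 64 tabVB_0_17 tabVB_0_18))) (.node 192 (.node 64 tabVB_0_19 (.node 64 tabVB_0_20 tabVB_0_21)) (.node 128 (.node 64 tabVB_0_22 tabVB_0_23) (.node 64 tabVB_0_24 tabVB_0_25)))))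

end Cfsg.Lib.CosetEnum.RuStemT
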