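import Cfsg.Agent.Lib.CosetEnum.Stem.Defs
import Cfsg.Agent.Lib.CosetEnum.RuStemT.TabFA_Data0
import Cfsg.Agent.Lib.CosetEnum.RuStemT.TabCA_Data0
import Cfsg.Agent.Lib.CosetEnum.RuStemT.TabVA_Data0
import Cfsg.Agent.Lib.CosetEnum.RuStemT.TabFB_Data0
import Cfsg.Agent.Lib.CosetEnum.RuStemT.TabCB_Data0
import Cfsg.Agent.Lib.CosetEnum.RuStemT.TabVB_Data0

/-! Generated certificate. -/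

set_option autoImplicit false
set_option maxRecDepth 20000

namespace Cfsg.Lib.CosetEnum.RuStemT

open Stem

/-- Table. -/
def tabFA : Tab :=
  tabFA_0

/-- Table. -/
def tabCA : Tab :=
  tabCA_0

/-- Table. -/
def tabVA : Tab :=
  tabVA_0

/-- Relator words. -/
def relWordsA : List (List Nat) :=
  [[0, 0],
    [1, 1],
    [4, 4],
    [3, 1, 3, 1, 3, 1],
    [0, 1, 0, 3, 1, 0, 4, 1, 0, 1, 4, 0, 1, 3, 0, 1],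
    [0, 3, 0, 3],
    [1, 0, 1, 0, 1, 2, 0, 1, 0, 2, 1, 0, 1, 0, 1, 0, 2, 1, 0, 1, 0, 2, 1, 0, 1, 0, 1, 0, 1, 2, 0, 1, 0, 1, 2, 0, 1, 0, 1, 0, 1, 2, 0, 1, 0, 1, 2, 0],
    [4, 1, 4, 1, 4, 1],
    [2, 4, 2, 4, 2, 4],
    [3, 4, 3, 4],
    [1, 0, 1, 2, 0, 3, 1, 0, 4, 1, 2, 0, 1, 0, 2, 1, 4, 0, 1, 3, 0, 1, 0, 2, 0],
    [2, 0, 2, 0, 2, 0],
    [3, 2, 3, 2],
    [4, 0, 4, 0],
    [0, 1, 3, 0, 1, 0, 1, 0, 3, 1, 0, 4, 1, 0, 1, 4],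
    [3, 0, 3, 0],
    [4, 3, 4, 3],
    [1, 0, 2, 1, 4, 0, 1, 3, 0, 2, 1, 0, 1, 0, 2, 0, 1, 0, 3, 1, 0, 4, 1, 2, 0],
    [2, 3, 2, 3],
    [2, 1, 2, 1],
    [0, 4, 0, 4],
    [0, 3, 0, 3],
    [0, 3, 0, 3],
    [0, 1, 0, 1, 0, 1, 0, 1, 0, 1, 0, 1, 0, 1, 0, 1],
    [0, 1, 0, 1, 0, 1, 0, 1, 0, 1, 0, 1, 0, 1, 0, 1],
    [0, 4, 0, 4],
    [0, 4, 0, 4],
    [0, 2, 0, 2, 0, 2],
    [0, 2, 0, 2, 0, 2],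
    [3, 1, 3, 1, 3, 1],
    [3, 1, 3, 1, 3, 1],
    [3, 4, 3, 4],
    [3, 4, 3, 4],
    [3, 2, 3, 2],
    [3, 2, 3, 2],
    [1, 4, 1, 4, 1, 4],
    [1, 4, 1, 4, 1, 4],
    [1, 2, 1, 2],
    [1, 2, 1, 2],
    [4, 2, 4, 2, 4, 2],
    [4, 2, 4, 2, 4, 2],
    [0, 3, 1, 0, 4, 1, 0, 1, 4, 0, 1, 3, 0, 1, 0, 1],
    [0, 3, 1, 0, 4, 1, 0, 1, 4, 0, 1, 3, 0, 1, 0, 1]]

/-- Their values. -/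
def relValsA : List (List Int) :=
  [[0, 0, 0, 0, 0, 0, 0, 0, 0],
    [0, 0, 0, 0, 0, 0, 0, 0, 0],
    [0, 0, 0, 0, 0, 0, 0, 0, 0],
    [0, 0, 1, 0, 0, 0, 0, 0, 0],
    [0, 0, 0, 0, 0, 0, 0, 1, 0],
    [1, 0, 0, 0, 0, 0, 0, 0, 0],
    [0, 0, 0, 0, 0, 0, 0, 0, 0],
    [0, 0, 0, 0, 0, 1, 0, 0, 0],
    [0, 0, 0, 0, 0, 0, 1, 0, 0],
    [0, 0, 0, 1, 0, 0, 0, 0, 0],
    [0, 0, 0, 0, 0, 0, 0, 0, 1],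
    [0, 0, 0, 0, 0, 0, 0, 0, 0],
    [0, 0, 0, 0, 1, 0, 0, 0, 0],
    [0, 1, 0, 0, 0, 0, 0, 0, 0],
    [0, 0, 0, 0, 0, 0, 0, 1, 0],
    [1, 0, 0, 0, 0, 0, 0, 0, 0],
    [0, 0, 0, 1, 0, 0, 0, 0, 0],
    [0, 0, 0, 0, 0, 0, 0, 0, -1],
    [0, 0, 0, 0, 1, 0, 0, 0, 0],
    [0, 0, 0, 0, 0, 0, 0, 0, 0],
    [0, 1, 0, 0, 0, 0, 0, 0, 0],
    [1, 0, 0, 0, 0, 0, 0, 0, 0],
    [-1, 0, 0, 0, 0, 0, 0, 0, 0],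
    [0, 0, 0, 0, 0, 0, 0, 0, 0],
    [0, 0, 0, 0, 0, 0, 0, 0, 0],
    [0, 1, 0, 0, 0, 0, 0, 0, 0],
    [0, -1, 0, 0, 0, 0, 0, 0, 0],
    [0, 0, 0, 0, 0, 0, 0, 0, 0],
    [0, 0, 0, 0, 0, 0, 0, 0, 0],
    [0, 0, 1, 0, 0, 0, 0, 0, 0],
    [0, 0, -1, 0, 0, 0, 0, 0, 0],
    [0, 0, 0, 1, 0, 0, 0, 0, 0],
    [0, 0, 0, -1, 0, 0, 0, 0, 0],
    [0, 0, 0, 0, 1, 0, 0, 0, 0],
    [0, 0, 0, 0, -1, 0, 0, 0, 0],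
    [0, 0, 0, 0, 0, 1, 0, 0, 0],
    [0, 0, 0, 0, 0, -1, 0, 0, 0],
    [0, 0, 0, 0, 0, 0, 0, 0, 0],
    [0, 0, 0, 0, 0, 0, 0, 0, 0],
    [0, 0, 0, 0, 0, 0, 1, 0, 0],
    [0, 0, 0, 0, 0, 0, -1, 0, 0],
    [0, 0, 0, 0, 0, 0, 0, 1, 0],
    [0, 0, 0, 0, 0, 0, 0, -1, 0]]

/-- Their sources. -/
def srcsA : List (Nat × Nat × Bool) :=
  [(0, 0, false), (2, 0, false), (3, 0, false), (9, 0, false), (17, 14, false), (5, 0, false), (16, 25, false), (12, 1, false), (14, 1, false), (10, 0, false), (18, 21, false), (8, 1, false), (11, 0, false), (7, 1, false), (17, 9, false), (5, 1, false), (10, 1, false), (18, 16, true), (11, 1, false), (13, 1, false), (7, 0, false), (5, 0, false), (5, 1, true), (6, 0, false), (6, 1, true), (7, 0, false), (7, 1, true), (8,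 0, false), (8, 1, true), (9, 0, false), (9, 1, true), (10, 0, false), (10, 1, true), (11, 0, false), (11, 1, true), (12, 0, false), (12, 1, true), (13, 0, false), (13, 1, true), (14, 0, false), (14, 1, true), (17, 0, false), (17, 3, true)]

/-- Closed paths. -/
def pathsA : List (List Nat × List Int) :=
  [([17, 10, 25, 96, 9, 8, 4, 3, 2, 1, 0, 88, 90, 89, 88, 89, 88, 90, 88, 89, 88, 0, 1, 2, 3, 4, 8, 9], [0, 0, 0, 0, 0, 0, 0, 0, 2]),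
    ([11, 1, 6, 97, 93, 97, 93, 97, 93], [3, 0, 0, 0, 3, 0, 0, 0, 0]),
    ([18, 2, 4, 98, 91, 98, 91], [0, 0, 2, 0, -3, 0, 0, 0, 0]),
    ([9, 68, 4, 115, 67, 111, 67], [0, 0, 0, -1, 3, 0, 0, 0, 0]),
    ([14, 84, 17, 125, 87, 86, 24, 109, 24, 23, 123, 66, 105, 13, 2, 100, 18, 70, 71, 122], [-1, -3, -2, 0, 0, -2, 0, -2, 0])]

/-- The certificate. -/
def certA : VCert :=
  ⟨relWordsA, relValsA, [[0],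
    [1],
    [2]], tabFA, tabCA, tabVA, 88, 38, 9, 256, 0, pathsA⟩

/-- Table. -/
def tabFB : Tab :=
  tabFB_0

/-- Table. -/
def tabCB : Tab :=
  tabCB_0

/-- Table. -/
def tabVB : Tab :=
  tabVB_0

/-- Relator words. -/
def relWordsB : List (List Nat) :=
  [[0, 0],
    [3, 3],
    [1, 1],
    [4, 4],
    [2, 2],
    [3, 1, 3, 1, 3, 1],
    [0, 1, 0, 3, 1, 0, 4, 1, 0, 1, 4, 0, 1, 3, 0, 1],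
    [0, 3, 0, 3],
    [1, 0, 1, 0, 1, 2, 0, 1, 0, 2, 1, 0, 1, 0, 1, 0, 2, 1, 0, 1, 0, 2, 1, 0, 1, 0, 1, 0, 1, 2, 0, 1, 0, 1, 2, 0, 1, 0, 1, 0, 1, 2, 0, 1, 0, 1, 2, 0],
    [4, 1, 4, 1, 4, 1],
    [2, 4, 2, 4, 2, 4],
    [3, 4, 3, 4],
    [1, 0, 1, 2, 0, 3, 1, 0, 4, 1, 2, 0, 1, 0, 2, 1, 4, 0, 1, 3, 0, 1, 0, 2, 0],
    [1, 0, 1, 0, 1, 0, 1, 0, 1, 0, 1, 0, 1, 0, 1, 0],
    [2, 0, 2, 0, 2, 0],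
    [3, 2, 3, 2],
    [1, 2, 1, 2],
    [4, 0, 4, 0],
    [1, 0, 1, 0, 2, 0, 1, 0, 1, 2, 0, 1, 0, 2, 0, 1, 0, 1, 0, 2, 0, 1, 0, 1, 0, 2, 0, 1, 0, 1, 0, 2, 0, 1, 0, 1, 0, 2, 0],
    [1, 3, 1, 3, 1, 3],
    [1, 0, 3, 1, 0, 4, 1, 0, 1, 4, 0, 1, 3, 0, 1, 0],
    [0, 3, 1, 0, 4, 1, 0, 1, 4, 0, 1, 3, 0, 1, 0, 1],
    [3, 1, 0, 4, 1, 0, 1, 4, 0, 1, 3, 0, 1, 0, 1, 0],
    [4, 1, 0, 1, 4, 0, 1, 3, 0, 1, 0, 1, 0, 3, 1, 0],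
    [4, 0, 1, 3, 0, 1, 0, 1, 0, 3, 1, 0, 4, 1, 0, 1],
    [3, 0, 1, 0, 1, 0, 3, 1, 0, 4, 1, 0, 1, 4, 0, 1],
    [3, 0, 3, 0],
    [1, 4, 1, 4, 1, 4],
    [4, 2, 4, 2, 4, 2],
    [4, 3, 4, 3],
    [1, 2, 0, 3, 1, 0, 4, 1, 2, 0, 1, 0, 2, 1, 4, 0, 1, 3, 0, 1, 0, 2, 0, 1, 0],
    [2, 0, 3, 1, 0, 4, 1, 2, 0, 1, 0, 2, 1, 4, 0, 1, 3, 0, 1, 0, 2, 0, 1, 0, 1],
    [3, 1, 0, 4, 1, 2, 0, 1, 0, 2, 1, 4, 0, 1, 3, 0, 1, 0, 2, 0, 1, 0, 1, 2, 0],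
    [2, 0, 1, 0, 2, 1, 4, 0, 1, 3, 0, 1, 0, 2, 0, 1, 0, 1, 2, 0, 3, 1, 0, 4, 1],
    [2, 1, 4, 0, 1, 3, 0, 1, 0, 2, 0, 1, 0, 1, 2, 0, 3, 1, 0, 4, 1, 2, 0, 1, 0],
    [0, 2, 0, 1, 0, 1, 2, 0, 3, 1, 0, 4, 1, 2, 0, 1, 0, 2, 1, 4, 0, 1, 3, 0, 1],
    [2, 0, 1, 0, 3, 1, 0, 4, 1, 2, 0, 1, 0, 2, 1, 4, 0, 1, 3, 0, 2, 1, 0, 1, 0],
    [0, 1, 0, 1, 0, 1, 0, 1, 0, 1, 0, 1, 0, 1, 0, 1],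
    [0, 2, 0, 2, 0, 2],
    [2, 3, 2, 3],
    [2, 1, 2, 1],
    [0, 4, 0, 4],
    [0, 2, 0, 1, 0, 1, 2, 0, 1, 0, 2, 0, 1, 0, 1, 0, 2, 0, 1, 0, 1, 0, 2, 0, 1, 0, 1, 0, 2, 0, 1, 0, 1, 0, 2, 0, 1, 0, 1],
    [0, 1, 0, 1, 2, 0, 1, 0, 2, 0, 1, 0, 1, 0, 2, 0, 1, 0, 1, 0, 2, 0, 1, 0, 1, 0, 2, 0, 1, 0, 1, 0, 2, 0, 1, 0, 1, 0, 2],
    [0, 2, 0, 1, 0, 1, 0, 2, 0, 1, 0, 1, 0, 2, 0, 1, 0, 1, 0, 2, 0, 1, 0, 1, 0, 2, 0, 1, 0, 1, 0, 2, 0, 1, 0, 1, 2, 0, 1],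
    [0, 1, 0, 1, 0, 2, 0, 1, 0, 1, 0, 2, 0, 1, 0, 1, 0, 2, 0, 1, 0, 1, 0, 2, 0, 1, 0, 1, 0, 2, 0, 1, 0, 1, 2, 0, 1, 0, 2],
    [0, 1, 0, 1, 0, 2, 0, 1, 0, 1, 0, 2, 0, 1, 0, 1, 0, 2, 0, 1, 0, 1, 0, 2, 0, 1, 0, 1, 2, 0, 1, 0, 2, 0, 1, 0, 1, 0, 2],
    [0, 1, 0, 1, 0, 2, 0, 1, 0, 1, 0, 2, 0, 1, 0, 1, 0, 2, 0, 1, 0, 1, 2, 0, 1, 0, 2, 0, 1, 0, 1, 0, 2, 0, 1, 0, 1, 0, 2],
    [0, 2, 0, 1, 0, 1, 0, 2, 0, 1, 0, 1, 0, 2, 0, 1, 0, 1, 2, 0, 1, 0, 2, 0, 1, 0, 1, 0, 2, 0, 1, 0, 1, 0, 2, 0, 1, 0, 1],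
    [0, 2, 0, 1, 0, 1, 0, 2, 0, 1, 0, 1, 2, 0, 1, 0, 2, 0, 1, 0, 1, 0, 2, 0, 1, 0, 1, 0, 2, 0, 1, 0, 1, 0, 2, 0, 1, 0, 1],
    [2, 0, 1, 0, 1, 0, 2, 0, 1, 0, 1, 0, 2, 0, 1, 0, 1, 0, 2, 0, 1, 0, 1, 0, 2, 0, 1, 0, 2, 1, 0, 1, 0, 2, 0, 1, 0, 1, 0],
    [0, 1, 0, 1, 0, 2, 0, 1, 0, 1, 0, 2, 0, 1, 0, 1, 0, 2, 0, 1, 0, 1, 0, 2, 0, 1, 0, 2, 1, 0, 1, 0, 2, 0, 1, 0, 1, 0, 2],
    [2, 1, 0, 1, 0, 2, 0, 1, 0, 1, 0, 2, 0, 1, 0, 1, 0, 2, 0, 1, 0, 1, 0, 2, 0, 1, 0, 1, 0, 2, 0, 1, 0, 1, 0, 2, 0, 1, 0],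
    [0, 3, 0, 3],
    [0, 3, 0, 3],
    [0, 1, 0, 1, 0, 1, 0, 1, 0, 1, 0, 1, 0, 1, 0, 1],
    [0, 1, 0, 1, 0, 1, 0, 1, 0, 1, 0, 1, 0, 1, 0, 1],
    [0, 4, 0, 4],
    [0, 4, 0, 4],
    [0, 2, 0, 2, 0, 2],
    [0, 2, 0, 2, 0, 2],
    [3, 1, 3, 1, 3, 1],
    [3, 1, 3, 1, 3, 1],
    [3, 4, 3, 4],
    [3, 4, 3, 4],
    [3, 2, 3, 2],
    [3, 2, 3, 2],
    [1, 4, 1, 4, 1, 4],
    [1, 4, 1, 4, 1, 4],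
    [1, 2, 1, 2],
    [1, 2, 1, 2],
    [4, 2, 4, 2, 4, 2],
    [4, 2, 4, 2, 4, 2],
    [0, 3, 1, 0, 4, 1, 0, 1, 4, 0, 1, 3, 0, 1, 0, 1],
    [0, 3, 1, 0, 4, 1, 0, 1, 4, 0, 1, 3, 0, 1, 0, 1]]

/-- Their values. -/
def relValsB : List (List Int) :=
  [[0, 0, 0, 0, 0, 0, 0, 0, 0],
    [0, 0, 0, 0, 0, 0, 0, 0, 0],
    [0, 0, 0, 0, 0, 0, 0, 0, 0],
    [0, 0, 0, 0, 0, 0, 0, 0, 0],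
    [0, 0, 0, 0, 0, 0, 0, 0, 0],
    [0, 0, 1, 0, 0, 0, 0, 0, 0],
    [0, 0, 0, 0, 0, 0, 0, 1, 0],
    [1, 0, 0, 0, 0, 0, 0, 0, 0],
    [0, 0, 0, 0, 0, 0, 0, 0, 0],
    [0, 0, 0, 0, 0, 1, 0, 0, 0],
    [0, 0, 0, 0, 0, 0, 1, 0, 0],
    [0, 0, 0, 1, 0, 0, 0, 0, 0],
    [0, 0, 0, 0, 0, 0, 0, 0, 1],
    [0, 0, 0, 0, 0, 0, 0, 0, 0],
    [0, 0, 0, 0, 0, 0, 0, 0, 0],
    [0, 0, 0, 0, 1, 0, 0, 0, 0],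
    [0, 0, 0, 0, 0, 0, 0, 0, 0],
    [0, 1, 0, 0, 0, 0, 0, 0, 0],
    [0, 0, 0, 0, 0, 0, 0, 0, 0],
    [0, 0, 1, 0, 0, 0, 0, 0, 0],
    [0, 0, 0, 0, 0, 0, 0, 1, 0],
    [0, 0, 0, 0, 0, 0, 0, 1, 0],
    [0, 0, 0, 0, 0, 0, 0, 1, 0],
    [0, 0, 0, 0, 0, 0, 0, 1, 0],
    [0, 0, 0, 0, 0, 0, 0, 1, 0],
    [0, 0, 0, 0, 0, 0, 0, 1, 0],
    [1, 0, 0, 0, 0, 0, 0, 0, 0],
    [0, 0, 0, 0, 0, 1, 0, 0, 0],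
    [0, 0, 0, 0, 0, 0, 1, 0, 0],
    [0, 0, 0, 1, 0, 0, 0, 0, 0],
    [0, 0, 0, 0, 0, 0, 0, 0, 1],
    [0, 0, 0, 0, 0, 0, 0, 0, 1],
    [0, 0, 0, 0, 0, 0, 0, 0, 1],
    [0, 0, 0, 0, 0, 0, 0, 0, 1],
    [0, 0, 0, 0, 0, 0, 0, 0, 1],
    [0, 0, 0, 0, 0, 0, 0, 0, 1],
    [0, 0, 0, 0, 0, 0, 0, 0, -1],
    [0, 0, 0, 0, 0, 0, 0, 0, 0],
    [0, 0, 0, 0, 0, 0, 0, 0, 0],
    [0, 0, 0, 0, 1, 0, 0, 0, 0],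
    [0, 0, 0, 0, 0, 0, 0, 0, 0],
    [0, 1, 0, 0, 0, 0, 0, 0, 0],
    [0, 0, 0, 0, 0, 0, 0, 0, 0],
    [0, 0, 0, 0, 0, 0, 0, 0, 0],
    [0, 0, 0, 0, 0, 0, 0, 0, 0],
    [0, 0, 0, 0, 0, 0, 0, 0, 0],
    [0, 0, 0, 0, 0, 0, 0, 0, 0],
    [0, 0, 0, 0, 0, 0, 0, 0, 0],
    [0, 0, 0, 0, 0, 0, 0, 0, 0],
    [0, 0, 0, 0, 0, 0, 0, 0, 0],
    [0, 0, 0, 0, 0, 0, 0, 0, 0],
    [0, 0, 0, 0, 0, 0, 0, 0, 0],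
    [0, 0, 0, 0, 0, 0, 0, 0, 0],
    [1, 0, 0, 0, 0, 0, 0, 0, 0],
    [-1, 0, 0, 0, 0, 0, 0, 0, 0],
    [0, 0, 0, 0, 0, 0, 0, 0, 0],
    [0, 0, 0, 0, 0, 0, 0, 0, 0],
    [0, 1, 0, 0, 0, 0, 0, 0, 0],
    [0, -1, 0, 0, 0, 0, 0, 0, 0],
    [0, 0, 0, 0, 0, 0, 0, 0, 0],
    [0, 0, 0, 0, 0, 0, 0, 0, 0],
    [0, 0, 1, 0, 0, 0, 0, 0, 0],
    [0, 0, -1, 0, 0, 0, 0, 0, 0],
    [0, 0, 0, 1, 0, 0, 0, 0, 0],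
    [0, 0, 0, -1, 0, 0, 0, 0, 0],
    [0, 0, 0, 0, 1, 0, 0, 0, 0],
    [0, 0, 0, 0, -1, 0, 0, 0, 0],
    [0, 0, 0, 0, 0, 1, 0, 0, 0],
    [0, 0, 0, 0, 0, -1, 0, 0, 0],
    [0, 0, 0, 0, 0, 0, 0, 0, 0],
    [0, 0, 0, 0, 0, 0, 0, 0, 0],
    [0, 0, 0, 0, 0, 0, 1, 0, 0],
    [0, 0, 0, 0, 0, 0, -1, 0, 0],
    [0, 0, 0, 0, 0, 0, 0, 1, 0],
    [0, 0, 0, 0, 0, 0, 0, -1, 0]]

/-- Their sources. -/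
def srcsB : List (Nat × Nat × Bool) :=
  [(0, 0, false), (1, 0, false), (2, 0, false), (3, 0, false), (4, 0, false), (9, 0, false), (17, 14, false), (5, 0, false), (16, 25, false), (12, 1, false), (14, 1, false), (10, 0, false), (18, 21, false), (6, 1, false), (8, 1, false), (11, 0, false), (13, 0, false), (7, 1, false), (15, 25, false), (9, 1, false), (17, 15, false), (17, 0, false), (17, 1, false), (17, 4, false), (17, 8, false), (17, 11, false), (5, 1, false), (12, 0, false), (14, 0, false), (10, 1, false), (18, 23, false), (18, 24, false), (18, 1, false), (18, 6, false), (18, 10, false), (18, 18, false), (18, 5, true), (6, 0, false), (8, 0, false), (11, 1, false), (13, 1, false), (7, 0, false), (15, 28, false), (15, 30, false), (15, 37,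 false), (15, 0, false), (15, 6, false), (15, 12, false), (15, 16, false), (15, 22, false), (15, 15, true), (15, 16, true), (15, 4, true), (5, 0, false), (5, 1, true), (6, 0, false), (6, 1, true), (7, 0, false), (7, 1, true), (8, 0, false), (8, 1, true), (9, 0, false), (9, 1, true), (10, 0, false), (10, 1, true), (11, 0, false), (11, 1, true), (12, 0, false), (12, 1, true), (13, 0, false), (13, 1, true), (14, 0, false), (14, 1, true), (17, 0, false), (17, 3, true)]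

/-- Closed paths. -/
def pathsB : List (List Nat × List Int) :=
  [([9, 803, 6, 1629, 1407, 1629, 1407, 1629, 1407], [1, 1, 0, 0, 1, 1, 1, 0, 1]),
    ([37, 1111, 18, 1110, 1635, 1295, 1635, 1110, 1111, 1517, 1515, 701, 702, 703, 1526, 703, 702, 701, 1515, 1517, 1111], [0, 1, 0, 0, 1, 1, 1, 1, 1])]

/-- The certificate. -/
def certB : VCert :=
  ⟨relWordsB, relValsB, [[0],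
    [1],
    [2]], tabFB, tabCB, tabVB, 1176, 460, 9, 16, 2, pathsB⟩

/-- The relators. -/
def canon : List (List Nat) :=
  [[0, 0],
    [3, 3],
    [1, 1],
    [4, 4],
    [2, 2],
    [0, 3, 0, 3],
    [0, 1, 0, 1, 0, 1, 0, 1, 0, 1, 0, 1, 0, 1, 0, 1],
    [0, 4, 0, 4],
    [0, 2, 0, 2, 0, 2],
    [3, 1, 3, 1, 3, 1],
    [3, 4, 3, 4],
    [3, 2, 3, 2],
    [1, 4, 1, 4, 1, 4],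
    [1, 2, 1, 2],
    [4, 2, 4, 2, 4, 2],
    [0, 1, 0, 1, 0, 2, 0, 1, 0, 1, 0, 2, 0, 1, 0, 1, 0, 2, 0, 1, 0, 1, 0, 2, 0, 1, 0, 1, 0, 2, 0, 1, 0, 1, 2, 0, 1, 0, 2],
    [0, 1, 0, 1, 0, 1, 2, 0, 1, 0, 1, 2, 0, 1, 0, 1, 0, 1, 2, 0, 1, 0, 1, 2, 0, 1, 0, 1, 0, 1, 2, 0, 1, 0, 2, 1, 0, 1, 0, 1, 0, 2, 1, 0, 1, 0, 2, 1],
    [0, 3, 1, 0, 4, 1, 0, 1, 4, 0, 1, 3, 0, 1, 0, 1],
    [0, 3, 1, 0, 4, 1, 2, 0, 1, 0, 2, 1, 4, 0, 1, 3, 0, 1, 0, 2, 0, 1, 0, 1, 2]]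

/-- Their values. -/
def canonVals : List (List Int) :=
  [[0, 0, 0, 0, 0, 0, 0, 0, 0],
    [0, 0, 0, 0, 0, 0, 0, 0, 0],
    [0, 0, 0, 0, 0, 0, 0, 0, 0],
    [0, 0, 0, 0, 0, 0, 0, 0, 0],
    [0, 0, 0, 0, 0, 0, 0, 0, 0],
    [1, 0, 0, 0, 0, 0, 0, 0, 0],
    [0, 0, 0, 0, 0, 0, 0, 0, 0],
    [0, 1, 0, 0, 0, 0, 0, 0, 0],
    [0, 0, 0, 0, 0, 0, 0, 0, 0],
    [0, 0, 1, 0, 0, 0, 0, 0, 0],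
    [0, 0, 0, 1, 0, 0, 0, 0, 0],
    [0, 0, 0, 0, 1, 0, 0, 0, 0],
    [0, 0, 0, 0, 0, 1, 0, 0, 0],
    [0, 0, 0, 0, 0, 0, 0, 0, 0],
    [0, 0, 0, 0, 0, 0, 1, 0, 0],
    [0, 0, 0, 0, 0, 0, 0, 0, 0],
    [0, 0, 0, 0, 0, 0, 0, 0, 0],
    [0, 0, 0, 0, 0, 0, 0, 1, 0],
    [0, 0, 0, 0, 0, 0, 0, 0, 1]]

/-- The exponent. -/
def expo : Nat := 2

/-- The twists. -/
def lam : List (List Int) :=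
  [[0, 0, 0, 0, 0, 0, 0, 0, 1],
    [0, 0, 0, 0, 0, 0, 0, 0, 0],
    [0, 0, 0, 0, 0, 0, 0, 0, 1],
    [0, 0, 1, 0, 0, 0, 0, 0, 0],
    [0, 0, 0, 0, 0, 0, 1, 0, 1]]

/-- The generator of the bound. -/
def omega : List Int :=
  [0, 0, 0, 0, 0, 0, 0, 0, 0]

/-- The multiples of it. -/
def mult : List Int :=
  [0, 0, 0, 0, 0, 0, 0, 0, 0, 0, 0, 0, 0, 0, 0, 0, 0, 0, 0]

/-- Combinations giving the exponent. -/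
def expoCombs : List (List Int × List (Nat × Nat × Int)) :=
  [([0, -2, -2, 0, 0], [(21, 22, 4), (29, 30, 2)]),
    ([0, -2, -2, 0, -2], [(21, 22, 2), (25, 26, -2), (35, 36, -2), (41, 42, -2)]),
    ([0, 0, 0, 0, 0], [(29, 30, 1)]),
    ([0, 0, -2, -2, 0], [(29, 30, 2)]),
    ([0, 4, 2, 0, 0], [(21, 22, -6), (29, 30, -2), (33, 34, -2)]),
    ([0, 0, 0, 0, 0], [(35, 36, 1)]),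
    ([0, 0, 0, 0, 0], [(39, 40, 1)]),
    ([0, 0, 0, 0, 0], [(41, 42, 1)]),
    ([1, 0, 0, 0, 0], [])]

/-- Combinations for the twisted relators. -/
def twistCombs : List (List Int × List (Nat × Nat × Int)) :=
  [([0, 0, 0, 0, 0, 0, 0, 0, 0, 0, 0, 0, 0, 0, 0, 1], []),
    ([0, 0, 0, 0, 0, 0, 0, 0, 0, 1, 0, 0, 0, 0, 0, 0], []),
    ([0, 0, 0, 0, 0, 0, 0, 0, 0, 0, 0, 0, 0, 0, 0, 0], []),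
    ([0, 0, 0, 0, 0, 0, 0, 0, 0, 0, 0, 0, 0, 1, 0, 1], []),
    ([0, 0, 0, 0, 0, 0, 0, 0, 0, 0, 0, 0, 0, 0, 0, 1], []),
    ([0, -1, -1, 0, 0, 0, 0, 0, 0, 1, 0, 0, 0, 0, 0, 1], [(53, 54, 2), (61, 62, 1)]),
    ([0, 0, 0, 0, 0, 0, 0, 0, 0, 0, 0, 0, 0, 0, 0, 4], []),
    ([0, 7, 11, 0, -1, 2, -2, 0, 0, 0, 0, 0, 0, 1, 0, 2], [(53, 54, -12), (57, 58, -1), (61, 62, -12), (65, 66, 6), (67, 68, -1)]),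
    ([0, 0, 0, 0, 0, 0, 0, 0, 0, 0, 0, 0, 0, 0, 0, 3], []),
    ([0, 0, 0, 0, 0, 0, 0, 0, 0, 2, 0, 0, 0, 0, 0, 0], []),
    ([0, 0, -1, -1, 0, 0, 0, 0, 0, 1, 0, 0, 0, 1, 0, 1], [(61, 62, 1)]),
    ([0, 2, 3, 0, 0, 0, 0, 0, 0, 1, 0, 0, 0, 0, 0, 1], [(53, 54, -3), (61, 62, -3), (65, 66, 2)]),
    ([0, 4, 7, 0, -1, 3, -2, 0, 0, 0, 0, 0, 0, 1, 0, 1], [(53, 54, -8), (57, 58, -2), (61, 62, -8), (65, 66, 4), (67, 68, -1)]),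
    ([0, 0, 0, 0, 0, 0, 0, 0, 0, 0, 0, 0, 0, 0, 0, 1], []),
    ([0, 0, 0, 0, 0, 0, 0, 0, 0, 0, 0, 0, 0, 2, 0, 3], []),
    ([0, 0, 0, 0, 0, 0, 0, 0, 0, 0, 0, 0, 0, 0, 0, 13], []),
    ([0, 0, 0, 0, 0, 0, 0, 0, 0, 0, 0, 0, 0, 0, 0, 14], []),
    ([0, 1, 1, 0, 0, -1, 1, 0, 0, 1, 0, 0, 0, 1, 0, 4], [(53, 54, -1), (61, 62, -1)]),
    ([0, 0, 0, 0, 0, 0, 0, 0, 0, 1, 0, 0, 0, 1, 0, 8], [])]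

/-- Combinations for the twists. -/
def lamCombs : List (List Int × List (Nat × Nat × Int)) :=
  [([0, 0, 0, 0, 0, 0, 0, 0, 0, 0, 0, 0, 0, 0, 0, 1], []),
    ([0, 0, 0, 0, 0, 0, 0, 0, 0, 0, 0, 0, 0, 0, 0, 0], []),
    ([0, 0, 0, 0, 0, 0, 0, 0, 0, 0, 0, 0, 0, 0, 0, 1], []),
    ([0, 0, 0, 0, 0, 0, 0, 0, 0, 1, 0, 0, 0, 0, 0, 0], []),
    ([0, 0, 0, 0, 0, 0, 0, 0, 0, 0, 0, 0, 0, 1, 0, 1], [])]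

/-- Combination for the generator. -/
def omegaComb : List Int × List (Nat × Nat × Int) :=
  ([0, 0, 0, 0, 0, 0, 0, 0, 0, 0, 0, 0, 0, 0, 0, 0], [])

end Cfsg.Lib.CosetEnum.RuStemT
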